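/-
Central extensions of classical groups: reduction of the `p`-part to the groups of Eichler elements.
-/
import Cfsg.Agent.Lib.CAut.Local
import Cfsg.Agent.Lib.Twist.MuB
import Cfsg.Agent.Lib.Mult.Transfer

set_option autoImplicit false

namespace Cfsg.Lib.Mult.Cl

open Module Subgroup Cfsg.Lib.Forms Cfsg.Lib.Forms.Form Cfsg.Lib.CAut Cfsg.Lib.Twist
open scoped commutatorElement

variable {F : Type*} [Field F] {σ : F →+* F} {K : Kind σ} {V : Type*} [AddCommGroup V] [Module F V] {D : Form K V}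
  {E : Type*} [Group E] {π : E →* D.isom}

variable (π) in
/-- An invariant complement to the kernel above the Eichler elements with centre `e`. -/
structure Cpl (e : V) (M : Subgroup E) : Prop where
  mem : ∀ m ∈ M, π m ∈ D.eichAt e
  sur : ∀ k ∈ D.eichAt e, ∃ m ∈ M, π m = k
  inj : ∀ m ∈ M, π m = 1 → m = 1
  cj : ∀ g, (π g).1 e = e → ∀ m ∈ M, g * m * g⁻¹ ∈ M

theorem eq_one_of_fix {e f : V} (h : D.IsHyp e f) {k : D.isom} (hk : k ∈ D.eichAt e) (hf : k.1 f = f) : k = 1 := by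
  obtain ⟨w, hw, d, hd, rfl⟩ := exists_eich_of_mem h hk
  have h0 : D.IsEich e 0 0 := ⟨h.Q_e, by simp, by simp⟩
  have h1 := D.eq_zero_symm (D.mem_hp.1 hw).2
  rw [eich_apply, h1, h.B_ef, zero_smul, add_zero, mul_one, sub_eq_self, smul_eq_zero, or_iff_right K.ε_ne_zero] at hf
  have h2 := congrArg (D.B f) hf
  rw [map_add, map_smul, (D.mem_hp.1 hw).2, h.B_fe, zero_add, map_zero, smul_eq_mul, mul_eq_zero, or_iff_left K.ε_ne_zero] at h2
  rw [h2, zero_smul, add_zero] at hf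
  exact (eich_congr D hd h0 rfl hf h2).trans (eich_zero D h0)

theorem comm_le (H : Subgroup E) : ⁅H, H⁆ ≤ H := commutator_le.2 fun _ ha _ hb =>
  mul_mem (mul_mem (mul_mem ha hb) (inv_mem ha)) (inv_mem hb)

variable [FiniteDimensional F V] (p : ℕ) [Fact p.Prime] [CharP F p]

theorem inf_ker (hD : D.Nondeg) (hc : ∀ z, π z = 1 → ∀ g, z * g = g * z) (hM : ∀ e, e ≠ 0 → D.Q e = 0 → ∃ M, Cpl π e M)
    (hfix : ∀ A : Subgroup D.isom, A ≤ π.range → IsPGroup p A → A ≠ ⊥ →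
      ∃ e ∈ fixSp A ⊓ D.perp (fixSp A), e ≠ 0 ∧ D.Q e = 0) (n : ℕ) :
    ∀ A ≤ π.range, IsPGroup p A → finrank F V ≤ finrank F (fixSp A) + n → ∀ z ∈ ⁅A.comap π, A.comap π⁆, π z = 1 → z = 1 := by
  have h0 : ∀ z ∈ ⁅(⊥ : Subgroup D.isom).comap π, (⊥ : Subgroup D.isom).comap π⁆, π z = 1 → z = 1 := fun z hz _ =>
    (commutator_le (H₃ := ⊥)).2 (fun a ha b _ => commutatorElement_eq_one_iff_mul_comm.2 (hc a ha b)) hz
  induction n with
  | zero =>
    intro A _ _ h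
    have : fixSp A = ⊤ := Submodule.eq_top_of_finrank_eq (le_antisymm (Submodule.finrank_le _) h)
    rw [show A = ⊥ from (eq_bot_iff_forall _).2 fun m hm => isom_ext fun x => (this.ge (Submodule.mem_top (x := x))) m hm]
    exact h0
  | succ n ih =>
    intro A hA hp hn
    by_cases hb : A = ⊥
    · rw [hb]; exact h0
    obtain ⟨e, ⟨h1, h2⟩, h3, h4⟩ := hfix A hA hp hb
    obtain ⟨f, hf⟩ := hD.exists_isHyp h4 h3
    obtain ⟨M, hM⟩ := hM e h3 h4
    have hN : A ≤ normalizer (D.eichAt e : Set D.isom) := fun g hg => mem_normalizer_iff.2 fun k =>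
      ⟨fun hk => by simpa [h1 g hg] using conj_mem_eichAt g hk, fun hk => by
        have := conj_mem_eichAt g⁻¹ hk
        rw [show (g⁻¹).1 e = e from h1 _ (inv_mem hg)] at this
        simpa [mul_assoc] using this⟩
    set A' := (A ⊔ D.eichAt e) ⊓ D.fix (fixSp A ⊔ F ∙ f) with hA'
    have a1 : A' ≤ π.range := inf_le_left.trans (sup_le hA fun k hk => let ⟨m, _, e⟩ := hM.sur k hk; ⟨m, e⟩)
    have a2 : IsPGroup p A' := (IsPGroup.to_sup_of_normal_right' hp (isPGroup_eichAt p h4) hN).to_le inf_le_left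
    have a3 : fixSp A ⊔ F ∙ f ≤ fixSp A' := fun x hx m hm => hm.2 x hx
    have a4 : f ∉ fixSp A := fun hf' => by simpa [hf.B_fe, K.ε_ne_zero] using h2 f hf'
    have a5 : finrank F V ≤ finrank F (fixSp A') + n := by
      have := Submodule.finrank_lt_finrank_of_lt (lt_of_le_of_ne (le_sup_left.trans a3) fun e =>
        a4 (e ▸ a3 (Submodule.mem_sup_right (Submodule.mem_span_singleton_self f))))
      omega
    have a6 : ∀ a ∈ A'.comap π, (π a).1 e = e := fun a ha => ha.2 e (Submodule.mem_sup_left h1)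
    have a7 : ∀ a ∈ A.comap π, ∃ m ∈ M, m⁻¹ * a ∈ A'.comap π := fun a ha => by
      obtain ⟨d, hd, e1⟩ := D.exists_eich_map (x := f) (y := (π a).1 f) h4 (by rw [← h1 _ ha, B_isom, h1 _ ha])
        (by simp [hf.B_ef]) (by simp)
      obtain ⟨m, hm, e2⟩ := hM.sur _ (eich_mem_eichAt hd)
      refine ⟨m, hm, ?_, ?_⟩
      · show π _ ∈ A ⊔ _
        rw [map_mul, map_inv]
        exact mul_mem (inv_mem (mem_sup_right (hM.mem m hm))) (mem_sup_left ha)
      · show π _ ∈ D.fix _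
        rw [map_mul, map_inv, e2, fix_sup]
        refine ⟨fun x hx => ?_, (D.mem_fix_span (s := {f})).2 fun x hx => ?_⟩
        · rw [isom_mul_apply, hx _ ha, isom_inv_apply_eq]
          refine D.eich_apply_of_perp_perp hd (D.eq_zero_symm (h2 x hx)) (D.eq_zero_symm ?_)
          rw [map_smul, ← neg_sub, map_neg, sub_mem_perp_of_fix (U := fixSp A) (fun u hu => hu _ ha) f x hx, neg_zero, smul_zero]
        · rw [hx, isom_mul_apply, isom_inv_apply_eq, e1]
    have hN' : ⁅A'.comap π, A'.comap π⁆ ≤ normalizer (M : Set E) := (comm_le _).trans fun g hg =>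
      mem_normalizer_iff.2 fun k => ⟨hM.cj g (a6 g hg) k, fun hk => by simpa [mul_assoc] using hM.cj g⁻¹ (a6 _ (inv_mem hg)) _ hk⟩
    have a8 : ⁅A.comap π, A.comap π⁆ ≤ M ⊔ ⁅A'.comap π, A'.comap π⁆ := commutator_le.2 fun a ha b hb => by
      obtain ⟨m, hm, c1⟩ := a7 a ha
      obtain ⟨m', hm', c2⟩ := a7 b hb
      rw [← mul_inv_cancel_left m a, ← mul_inv_cancel_left m' b]
      generalize m⁻¹ * a = a, m'⁻¹ * b = b at c1 c2
      rw [show ⁅m * a, m' * b⁆ = m * (a * m' * a⁻¹) * (a * b * a⁻¹ * m⁻¹ * (a * b * a⁻¹)⁻¹) * (⁅a, b⁆ * m'⁻¹ * ⁅a, b⁆⁻¹) * ⁅a, b⁆ by group]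
      have c3 := commutator_mem_commutator c1 c2
      exact mul_mem (mem_sup_left (mul_mem (mul_mem (mul_mem hm (hM.cj a (a6 a c1) _ hm')) (hM.cj _ (a6 _ (mul_mem (mul_mem c1 c2) (inv_mem c1)))
        _ (inv_mem hm))) (hM.cj _ (a6 _ (comm_le _ c3)) _ (inv_mem hm')))) (mem_sup_right c3)
    intro z hz e1
    have := a8 hz
    rw [← SetLike.mem_coe, coe_mul_of_right_le_normalizer_left _ _ hN'] at this
    obtain ⟨m, hm, y, hy, rfl⟩ := this
    have e2 : π m = (π y)⁻¹ := eq_inv_of_mul_eq_one_left (by rw [← map_mul]; exact e1)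
    have e3 : π y ∈ D.fix (fixSp A ⊔ F ∙ f) := (comm_le _ hy).2
    obtain rfl := hM.inj m hm (eq_one_of_fix hf (hM.mem m hm) (e2 ▸ (inv_mem e3) f
      (Submodule.mem_sup_right (Submodule.mem_span_singleton_self f))))
    simpa using ih A' a1 a2 a5 y hy (by simpa using e1)

theorem pext [Finite E] (hD : D.Nondeg) (hc : ∀ z, π z = 1 → ∀ g, z * g = g * z) (hs : π.ker ≤ commutator E)
    (hM : ∀ e, e ≠ 0 → D.Q e = 0 → ∃ M, Cpl π e M)
    (hfix : ∀ A : Subgroup D.isom, A ≤ π.range → IsPGroup p A → A ≠ ⊥ →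
      ∃ e ∈ fixSp A ⊓ D.perp (fixSp A), e ≠ 0 ∧ D.Q e = 0) : PExt π p := by
  refine ⟨hc, fun z hz k e => ?_⟩
  obtain ⟨P⟩ : Nonempty (Sylow p E) := inferInstance
  have h5 := inf_ker p hD hc hM hfix _ (P.1.map π) (map_le_range _ _) (P.2.map π) (Nat.le_add_left _ _) _
    (commutator_mono (le_comap_map _ _) (le_comap_map _ _)
      (pow_index_mem_commutator (H := P.1) (mem_center_iff.2 fun g => (hc z hz g).symm) (hs hz))) (by simp [hz])
  simpa using pow_gcd_eq_one.2 ⟨e, h5⟩ |>.symm.trans (by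
    rw [Nat.Coprime.pow_left k ((Fact.out : p.Prime).coprime_iff_not_dvd.2 P.not_dvd_index), pow_one]) |>.symm

theorem exists_rad [Finite F] (hD : D.Nondeg) {M : Subgroup D.isom} (hM : IsPGroup p M) (hne : M ≠ ⊥) :
    ∃ e ∈ fixSp M ⊓ D.perp (fixSp M), e ≠ 0 := by
  have hC : D.perp (fixSp M) ≠ ⊥ := fun h => by
    have h1 : fixSp M = ⊤ := by rw [← hD.perp_perp (fixSp M), h]; simp
    exact hne ((eq_bot_iff_forall _).2 fun m hm => isom_ext fun y => (h1 ▸ Submodule.mem_top : y ∈ fixSp M) m hm)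
  obtain ⟨v, hv, hv0, hfix⟩ := exists_fixed_mod p hM (rho _) (A := ⊥) (B := D.perp (fixSp M))
    (fun h => hC (le_bot_iff.1 h)) (fun m x hx => by rw [(Submodule.mem_bot F).1 hx]; simp) fun m y hy =>
      (D.stab_le_stab_perp _ (D.fix_le_stab (fixSp M) fun c hc => hc m.1 m.2) y).1 hy
  exact ⟨v, ⟨fun m hm => sub_eq_zero.1 (hfix ⟨m, hm⟩), hv⟩, hv0⟩

end Cfsg.Lib.Mult.Cl
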