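/-
Central extensions of orthogonal groups: invariant biadditive maps.
-/
import Cfsg.Agent.Lib.Mult.ClA
import Cfsg.Agent.Lib.CAut.Fam

set_option autoImplicit false

namespace Cfsg.Lib.Mult.Cl

open Module Subgroup Cfsg.Lib.Forms Cfsg.Lib.Forms.Form Cfsg.Lib.CAut Cfsg.Lib.Twist Cfsg.Lib.Chev
open scoped commutatorElement

variable {F : Type*} [Field F] {V : Type*} [AddCommGroup V] [Module F V] {D : Form (quadKind F) V}

variable (D) in
open Classical in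
/-- The Eichler elements of `Ω`. -/
noncomputable def ro (e z : V) : D.E := if h : D.IsEich e z (D.Q z) then ⟨_, D.eich_mem_E e z _ h⟩ else 1

variable (D) in
/-- `e` is singular and orthogonal to `z`. -/
structure Or (e z : V) : Prop where
  Q : D.Q e = 0
  B : D.B e z = 0

namespace Or

variable {e z z' : V} (h : Or D e z)
include h

theorem val : (ro D e z).1 = D.eich e z _ (isEich_quad h.Q h.B) := by rw [ro, dif_pos (isEich_quad h.Q h.B)]

theorem ap (x : V) : (ro D e z).1.1 x = x + D.B z x • e - D.B e x • (z + D.Q z • e) := by simp [h.val, eich_apply]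

theorem ap' {x : V} (hx : D.B e x = 0) : (ro D e z).1.1 x = x + D.B z x • e := by simp [h.ap, hx]

theorem fx {x : V} (hx : D.B e x = 0) (hx' : D.B z x = 0) : (ro D e z).1.1 x = x := by simp [h.ap, hx, hx']

theorem ee : D.B e e = 0 := D.B_self_of_Q h.Q
theorem ze : D.B z e = 0 := D.eq_zero_symm h.B
theorem add (h' : Or D e z') : Or D e (z + z') := ⟨h.Q, by simp [h.B, h'.B]⟩
theorem smul (c : F) : Or D e (c • z) := ⟨h.Q, by simp [h.B]⟩
theorem smul' (c : F) : Or D (c • e) z := ⟨D.Q_smul_of_Q h.Q c, by simp [h.B]⟩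
theorem neg : Or D e (-z) := ⟨h.Q, by simp [h.B]⟩
theorem self : Or D e e := ⟨h.Q, h.ee⟩
theorem act (g : D.E) : Or D (g.1.1 e) (g.1.1 z) := ⟨by simp [h.Q], by simp [h.B]⟩

theorem ro_add (h' : Or D e z') : ro D e (z + z') = ro D e z * ro D e z' :=
  Subtype.ext (by rw [coe_mul, h.val, h'.val, (h.add h').val]; exact quad_eich_add _ h.B h'.B)

theorem comm (h' : Or D e z') : ro D e z * ro D e z' = ro D e z' * ro D e z := by rw [← h.ro_add h', ← h'.ro_add h, add_comm]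

theorem conj (g : D.E) : g * ro D e z * g⁻¹ = ro D (g.1.1 e) (g.1.1 z) :=
  Subtype.ext (by rw [coe_mul, coe_mul, h.val, (h.act g).val, coe_inv, conj_eich]; exact eich_congr D _ _ rfl rfl (by simp))

theorem conj_fx {g : D.E} (h1 : g.1.1 e = e) (h2 : g.1.1 z = z) : g * ro D e z = ro D e z * g := by
  rw [← mul_inv_eq_iff_eq_mul, h.conj, h1, h2]

theorem ro_smul (c : F) : ro D (c • e) z = ro D e (c • z) := Subtype.ext (isom_ext fun x => by
  simp only [(h.smul c).ap, (h.smul' c).ap, D.B_lin, quad_Q_smul, RingHom.id_apply]; module)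

theorem ro_self (c : F) : ro D e (c • e) = 1 := Subtype.ext (isom_ext fun x => by
  simp [(h.self.smul c).ap, quad_Q_smul, h.Q, smul_smul, mul_comm])

theorem ro_zero : ro D e 0 = 1 := by simpa using h.ro_self 0

theorem ro_neg : ro D e (-z) = (ro D e z)⁻¹ := eq_inv_of_mul_eq_one_left (by rw [← h.neg.ro_add h, neg_add_cancel, h.ro_zero])

theorem ro_swap (hz : D.Q z = 0) : ro D z e = ro D e (-z) := Subtype.ext (isom_ext fun x => by
  simp only [h.neg.ap, (Or.mk hz h.ze).ap, D.B_lin, Q_neg, hz, h.Q]; module)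

theorem eq_of (e1 : ro D e z = 1) {f : V} (hf : D.B e f = 1) : z = (D.B z f - D.Q z) • e := by
  have := h.ap f
  rw [e1, hf] at this
  simp only [OneMemClass.coe_one, LinearEquiv.coe_one, id] at this
  linear_combination (norm := module) this

end Or

theorem eq_one_of {A : Type*} [Group A] {a b : A} (h : a * b = a) : b = 1 := by simpa using h

/-- An invariant biadditive map factors through the bilinear form. -/
theorem biadd {A : Type*} [Group A] {X : Submodule F V} {b : V → V → A}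
    (h1 : ∀ x ∈ X, ∀ x' ∈ X, ∀ y ∈ X, b (x + x') y = b x y * b x' y) (h2 : ∀ x ∈ X, ∀ y ∈ X, ∀ y' ∈ X, b x (y + y') = b x y * b x y')
    (h3 : ∀ e ∈ X, ∀ m ∈ X, Or D e m → ∀ x ∈ X, ∀ y ∈ X, b ((ro D e m).1.1 x) ((ro D e m).1.1 y) = b x y)
    {e f w m : V} (he : e ∈ X) (hf : f ∈ X) (h : D.IsHyp e f) (hw : w ∈ X ⊓ D.hp e f) (hm : m ∈ X ⊓ D.hp e f) (h4 : D.B m w = 1)
    {x y : V} (hx : x ∈ X) (hy : y ∈ X) : b x y = b (D.B x y • e) f := by
  have k : ∀ {e f}, e ∈ X → f ∈ X → D.IsHyp e f → w ∈ X ⊓ D.hp e f → m ∈ X ⊓ D.hp e f → (∀ a c : F, b (a • e) (c • e) = 1) ∧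
      (∀ a : F, ∀ u ∈ X ⊓ D.hp e f, b (a • e) u = 1 ∧ b u (a • e) = 1) ∧
      (∀ u ∈ X ⊓ D.hp e f, ∀ v ∈ X ⊓ D.hp e f, ∀ c : F, b u (c • v) = b (D.B v u • e) (c • f)) := fun {e f} he hf h hw hm => by
    have o : ∀ u ∈ X ⊓ D.hp e f, Or D e u := fun u hu => ⟨h.Q_e, (D.mem_hp.1 hu.2).1⟩
    have s : ∀ a : F, a • e ∈ X := fun a => X.smul_mem a he
    have g1 : ∀ u ∈ X ⊓ D.hp e f, ∀ a : F, (ro D e u).1.1 (a • e) = a • e := fun u hu a => by
      rw [map_smul, (o u hu).fx (o u hu).ee (o u hu).ze]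
    have g2 : ∀ u ∈ X ⊓ D.hp e f, ∀ a : F, (ro D e u).1.1 (a • f) = a • f + (-a • u + (-a * D.Q u) • e) := fun u hu a => by
      rw [map_smul, (o u hu).ap, h.B_ef, D.eq_zero_symm (D.mem_hp.1 hu.2).2]; module
    have a1 : ∀ a c : F, b (a • e) (c • e) = 1 := fun a c => by
      have := h3 e he _ (X.smul_mem c hm.1) ((o m hm).smul c) _ (s a) w hw.1
      rw [g1 _ (Submodule.smul_mem _ c hm), ((o m hm).smul c).ap' (o w hw).B, h2 _ (s a) _ hw.1 _ (s _)] at this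
      simpa [h4] using eq_one_of this
    have a2 : ∀ a : F, ∀ u ∈ X ⊓ D.hp e f, b (a • e) u = 1 ∧ b u (a • e) = 1 := fun a u hu => by
      have t1 := h3 e he u hu.1 (o u hu) _ (s a) _ (X.smul_mem (-1) hf)
      have t2 := h3 e he u hu.1 (o u hu) _ (X.smul_mem (-1) hf) _ (s a)
      rw [g1 u hu, g2 u hu] at t1 t2
      rw [h2 _ (s a) _ (X.smul_mem _ hf) _ (add_mem (X.smul_mem _ hu.1) (s _)), h2 _ (s a) _ (X.smul_mem _ hu.1) _ (s _), a1] at t1
      rw [h1 _ (X.smul_mem _ hf) _ (add_mem (X.smul_mem _ hu.1) (s _)) _ (s a), h1 _ (X.smul_mem _ hu.1) _ (s _) _ (s a), a1] at t2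
      exact ⟨by simpa using eq_one_of t1, by simpa using eq_one_of t2⟩
    refine ⟨a1, a2, fun u hu v hv c => ?_⟩
    have m1 := X.smul_mem c hf
    have m2 := Submodule.smul_mem _ (-c) hv
    have t := h3 e he _ hv.1 (o _ hv) u hu.1 _ m1
    rw [g2 _ hv, (o _ hv).ap' (o u hu).B, h1 _ hu.1 _ (s _) _ (add_mem m1 (add_mem m2.1 (s _))), h2 _ hu.1 _ m1 _ (add_mem m2.1 (s _)),
      h2 _ hu.1 _ m2.1 _ (s _), (a2 _ u hu).2, h2 _ (s _) _ m1 _ (add_mem m2.1 (s _)), h2 _ (s _) _ m2.1 _ (s _), (a2 _ _ m2).1, a1,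
      mul_one, mul_one, mul_one, mul_assoc] at t
    have t1 := h2 u hu.1 _ m2.1 _ (X.smul_mem c hv.1)
    rw [← add_smul, neg_add_cancel, zero_smul, ← zero_smul F e, (a2 _ u hu).2] at t1
    exact mul_left_cancel (t1.symm.trans (eq_one_of t).symm)
  have hf' : D.IsHyp f e := ⟨h.Q_f, h.Q_e, by rw [quad_symm, h.B_ef]⟩
  have hp : D.hp f e = D.hp e f := by ext; simp [mem_hp, and_comm]
  obtain ⟨a1, a2, a3⟩ := k he hf h hw hm
  obtain ⟨b1, b2, b3⟩ := k hf he hf' (hp ▸ hw) (hp ▸ hm)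
  rw [hp] at b2 b3
  have c1 : ∀ u ∈ X ⊓ D.hp e f, ∀ v ∈ X ⊓ D.hp e f, b u v = b (D.B u v • e) f := fun u hu v hv => by
    simpa [quad_symm D v] using a3 u hu v hv 1
  have c2 : ∀ a c : F, b (a • e) (c • f) = b ((a * c) • e) f ∧ b (a • f) (c • e) = b ((a * c) • e) f := fun a c => by
    have t1 := a3 _ (Submodule.smul_mem _ a hw) m hm c
    have t2 := b3 _ (Submodule.smul_mem _ a hw) m hm c
    have t3 := c1 _ (Submodule.smul_mem _ a hw) _ (Submodule.smul_mem _ c hm)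
    simp only [D.B_lin, RingHom.id_apply, quad_symm D w, h4, mul_one] at t1 t2 t3
    rw [← t1, ← t2, t3, mul_comm]
    exact ⟨rfl, rfl⟩
  have d : ∀ x ∈ X, ∃ a c : F, ∃ u ∈ X ⊓ D.hp e f, x = a • e + (c • f + u) := fun x hx =>
    ⟨D.B f x, D.B e x, x - D.B f x • e - D.B e x • f, ⟨sub_mem (sub_mem hx (X.smul_mem _ he)) (X.smul_mem _ hf), D.mem_hp.2 (by
      simp [h.B_ef, hf'.B_ef, D.B_self_of_Q h.Q_e, D.B_self_of_Q h.Q_f])⟩, by module⟩
  obtain ⟨a, c, u, hu, rfl⟩ := d x hx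
  obtain ⟨a', c', u', hu', rfl⟩ := d y hy
  have s : ∀ a : F, a • e ∈ X := fun a => X.smul_mem a he
  have s' : ∀ a : F, a • f ∈ X := fun a => X.smul_mem a hf
  rw [h1 _ (s _) _ (add_mem (s' _) hu.1) _ hy, h1 _ (s' _) _ hu.1 _ hy]
  simp only [h2 _ (s _) _ (s _) _ (add_mem (s' _) hu'.1), h2 _ (s' _) _ (s _) _ (add_mem (s' _) hu'.1), h2 _ hu.1 _ (s _) _ (add_mem (s' _) hu'.1),
    h2 _ (s _) _ (s' _) _ hu'.1, h2 _ (s' _) _ (s' _) _ hu'.1, h2 _ hu.1 _ (s' _) _ hu'.1, a1, b1, a2 _ _ hu, a2 _ _ hu', b2 _ _ hu, b2 _ _ hu',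
    c2, c1 _ hu _ hu', one_mul, mul_one, ← h1 _ (s _) _ (s _) _ hf, ← add_smul]
  simp [h.B_ef, hf'.B_ef, D.B_self_of_Q h.Q_e, D.B_self_of_Q h.Q_f, D.mem_hp.1 hu'.2, D.eq_zero_symm (D.mem_hp.1 hu.2).1,
    D.eq_zero_symm (D.mem_hp.1 hu.2).2]

theorem adj {e f : V} (h : D.IsHyp e f) (x : V) : ∃ y, D.B e y = 0 ∧ D.B f y = 0 ∧ ∀ u, D.B e u = 0 → D.B f u = 0 → D.B u y = D.B u x :=
  ⟨x - D.B f x • e - D.B e x • f, by simp [h.B_ef, D.B_self_of_Q h.Q_e], by simp [quad_symm D f e, h.B_ef, D.B_self_of_Q h.Q_f],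
    fun u a b => by simp [D.eq_zero_symm a, D.eq_zero_symm b]⟩

theorem sing_ind {X : Submodule F V} {N : AddSubgroup V} {e f : V} (h : D.IsHyp e f) (he : e ∈ X) (hf : f ∈ X)
    (hN : ∀ x ∈ X, D.Q x = 0 → x ∈ N) {x : V} (hx : x ∈ X) : x ∈ N := by
  have a : ∀ c : F, c • e ∈ N ∧ c • f ∈ N := fun c =>
    ⟨hN _ (X.smul_mem c he) (D.Q_smul_of_Q h.Q_e c), hN _ (X.smul_mem c hf) (D.Q_smul_of_Q h.Q_f c)⟩
  obtain ⟨c, hc⟩ := D.exists_Q_add_smul_eq_zero (w := x + (1 - D.B f x) • e) h.Q_f (by simp [quad_symm D f e, h.B_ef])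
  simpa using sub_mem (sub_mem (hN _ (add_mem (add_mem hx (X.smul_mem _ he)) (X.smul_mem _ hf)) hc) (a c).2) (a (1 - D.B f x)).1

variable (D) in
/-- The hypotheses on the form. -/
structure Big : Prop where
  nd : D.Nondeg
  rk : 8 ≤ finrank F V
  ts : finrank F V = 8 → ¬ D.HasTS 4

namespace Big

variable [FiniteDimensional F V] (H : Big D)
include H

theorem pair {a b c d : V} (ha : D.Q a = 0) (hb : D.Q b = 0) (hc : D.Q c = 0) (hd : D.Q d = 0) :
    ∃ w m, (D.B a w = 0 ∧ D.B b w = 0 ∧ D.B c w = 0 ∧ D.B d w = 0) ∧ (D.B a m = 0 ∧ D.B b m = 0 ∧ D.B c m = 0 ∧ D.B d m = 0) ∧ D.B m w = 1 := by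
  by_contra hn
  set U := Submodule.span F (Set.range ![a, b, c, d])
  have h1 : finrank F U ≤ 4 := (finrank_range_le_card (R := F) ![a, b, c, d]).trans (by simp)
  have hU : ∀ x ∈ D.perp U, D.B a x = 0 ∧ D.B b x = 0 ∧ D.B c x = 0 ∧ D.B d x = 0 := by simp +contextual [U, D.mem_perp_span]
  have h2 : D.perp U ≤ U := fun m hm => by
    rw [← H.nd.perp_perp U, mem_perp']
    exact fun w hw => by_contra fun h0 => hn ⟨(D.B m w)⁻¹ • w, m, hU _ (Submodule.smul_mem _ _ hw), hU _ hm, by simp [h0]⟩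
  have h3 := H.nd.finrank_perp U
  have h4 := Submodule.finrank_mono h2
  have h5 := H.rk
  have h6 := Submodule.eq_of_le_of_finrank_le h2 (by omega)
  refine H.ts (by omega) ⟨U, by omega, isTS_quad fun x hx => ?_⟩
  induction hx using Submodule.span_induction with
  | mem x hx => obtain ⟨i, rfl⟩ := hx; fin_cases i <;> assumption
  | zero => simp
  | add x y hx hy a b => rw [quad_Q_add, a, b, (h6.ge hy) x hx]; simp
  | smul c x _ a => exact D.Q_smul_of_Q a c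

variable [Finite F]

theorem hyp (a b : V) : ∃ e f, D.IsHyp e f ∧ (D.B a e = 0 ∧ D.B b e = 0) ∧ D.B a f = 0 ∧ D.B b f = 0 := by
  set U := Submodule.span F (Set.range ![a, b])
  have h1 : finrank F U ≤ 2 := (finrank_range_le_card (R := F) ![a, b]).trans (by simp)
  obtain ⟨C, hC⟩ := U.exists_isCompl
  have h2 := Submodule.finrank_add_eq_of_isCompl hC
  have h3 := H.nd.finrank_perp U
  have h4 := Submodule.finrank_sup_add_finrank_inf_eq (D.perp U) C
  have h5 := Submodule.finrank_le (D.perp U ⊔ C)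
  have h6 := H.rk
  obtain ⟨e, e0, e1⟩ := Quad.exists_singular (D.restrict (D.perp U ⊓ C)) (by omega)
  obtain ⟨f, f1, f2, f3⟩ := H.nd.exists_partner (H := U) (e := e) e1 (fun h => e0 (Subtype.ext
    (Submodule.disjoint_def.1 hC.disjoint _ h e.2.2))) e.2.1 1 one_ne_zero
  exact ⟨e, f, ⟨e1, f2, f3⟩, by simpa [U, D.mem_perp_span, and_comm] using e.2.1,
    by simpa [U, D.mem_perp_span, and_comm] using f1⟩

theorem span {a b c : V} (hb : Or D a b) (hc : Or D a c) (b0 : D.Q b = 0) (c0 : D.Q c = 0) {N : AddSubgroup V}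
    (hN : ∀ k : D.E, k.1.1 a = a → k.1.1 b = b → k.1.1 c = c → ∀ m, D.B a m = 0 → D.B b m = 0 → D.B c m = 0 → k.1.1 m - m ∈ N)
    {v : V} (h1 : D.B a v = 0) (h2 : D.B b v = 0) (h3 : D.B c v = 0) : v ∈ N := by
  set U := Submodule.span F (Set.range ![a, b, c])
  have hU : ∀ x, x ∈ D.perp U ↔ D.B a x = 0 ∧ D.B b x = 0 ∧ D.B c x = 0 := by simp [U, D.mem_perp_span]; tauto
  have s : ∀ x ∈ D.perp U, D.Q x = 0 → x ∈ N := fun x hx x0 => by
    obtain ⟨w, m, w1, m1, e⟩ := H.pair hb.Q b0 c0 x0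
    have o : Or D x m := ⟨x0, m1.2.2.2⟩
    obtain ⟨x1, x2, x3⟩ := (hU x).1 hx
    simpa [o.ap' w1.2.2.2, e] using hN (ro D x m) (o.fx (D.eq_zero_symm x1) (D.eq_zero_symm m1.1)) (o.fx (D.eq_zero_symm x2)
      (D.eq_zero_symm m1.2.1)) (o.fx (D.eq_zero_symm x3) (D.eq_zero_symm m1.2.2.1)) w w1.1 w1.2.1 w1.2.2.1
  have hv := (hU v).2 ⟨h1, h2, h3⟩
  by_cases h : ∃ e ∈ D.perp U, e ∉ U ∧ D.Q e = 0
  · obtain ⟨e, e1, e2, e3⟩ := h
    obtain ⟨f, f1, f2, f3⟩ := H.nd.exists_partner e3 e2 e1 1 one_ne_zero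
    exact sing_ind ⟨e3, f2, f3⟩ e1 f1 s hv
  push Not at h
  by_cases v0 : D.Q v = 0
  · exact s v hv v0
  have v1 : v ∉ U := fun hv' => v0 (by
    obtain ⟨t, rfl⟩ := (Submodule.mem_span_range_iff_exists_fun F).1 hv'
    simp [Fin.sum_univ_succ, hb.ze, D.B_self_of_Q b0] at h2
    rcases h2 with h2 | h2 <;> simp [Fin.sum_univ_succ, quad_Q_add, quad_Q_smul, hb.Q, b0, c0, hb.B, hc.B, h2])
  obtain ⟨u, u1, u2, u3⟩ : ∃ u ∈ D.perp U, u ∉ U ⊔ F ∙ v ∧ D.B v u ≠ 0 := by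
    obtain ⟨u, u1, u2⟩ : ∃ u ∈ D.perp U, u ∉ U ⊔ F ∙ v := SetLike.not_le_iff_exists.1 fun hl => by
      have h1 : finrank F U ≤ 3 := (finrank_range_le_card (R := F) ![a, b, c]).trans (by simp)
      have := Submodule.finrank_mono hl
      have := Submodule.finrank_add_le_finrank_add_finrank U (F ∙ v)
      have := H.nd.finrank_perp U
      have := finrank_span_singleton (K := F) (v := v) (by rintro rfl; simp at v0)
      have := H.rk
      omega
    obtain ⟨y, y1, y2⟩ := H.nd.exists_perp_B_eq' v1 1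
    by_cases e : D.B v u = 0
    · by_cases e' : y ∈ U ⊔ F ∙ v
      · exact ⟨u + y, add_mem u1 y1, fun h => u2 (by simpa using sub_mem h e'), by simp [e, y2]⟩
      · exact ⟨y, y1, e', by simp [y2]⟩
    · exact ⟨u, u1, u2, e⟩
  have u0 := h u u1 fun h => u2 (Submodule.mem_sup_left h)
  have w1 : (D.refl u).1 v ∈ D.perp U := by rw [refl_apply]; exact sub_mem hv (Submodule.smul_mem _ _ u1)
  obtain ⟨x, x1, x2⟩ := H.nd.exists_perp_B_eq' (H := U ⊔ F ∙ (D.refl u).1 v) (a := v) (fun h => by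
    obtain ⟨y, hy, z, hz, e⟩ := Submodule.mem_sup.1 h
    obtain ⟨t, rfl⟩ := Submodule.mem_span_singleton.1 hz
    have t0 : t * ((D.Q u)⁻¹ * D.B u v) ≠ 0 := mul_ne_zero (by rintro rfl; exact v1 (by rwa [← e, zero_smul, add_zero]))
      (mul_ne_zero (inv_ne_zero u0) (D.ne_zero_symm u3))
    refine u2 ((Submodule.smul_mem_iff _ t0).1 ?_)
    rw [refl_apply] at e
    rw [show (t * ((D.Q u)⁻¹ * D.B u v)) • u = y + (t - 1) • v by linear_combination (norm := module) -e]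
    exact add_mem (Submodule.mem_sup_left hy) (Submodule.mem_sup_right (Submodule.smul_mem _ _ (Submodule.mem_span_singleton_self v)))) (-D.Q v)
  rw [perp_sup, Submodule.mem_inf, mem_perp_span_singleton] at x1
  have hk : D.refl v * D.refl ((D.refl u).1 v) ∈ D.E := by
    rw [← commutator_eq_E' H.nd (by have := H.rk; omega), ← conj_refl, ← mul_assoc, ← mul_assoc]
    nth_rewrite 2 [← refl_inv v]
    exact commutator_mem_commutator (mem_top _) (mem_top _)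
  have f : ∀ y, D.B y v = 0 → D.B y ((D.refl u).1 v) = 0 → (D.refl v * D.refl ((D.refl u).1 v)).1 y = y := fun y a b => by
    rw [isom_mul_apply, refl_apply_of_perp (D.eq_zero_symm b), refl_apply_of_perp (D.eq_zero_symm a)]
  obtain ⟨w2, w3, w4⟩ := (hU _).1 w1
  obtain ⟨x3, x4, x5⟩ := (hU _).1 x1.1
  simpa [refl_apply_of_perp x1.2, refl_apply v x, x2, v0] using hN ⟨_, hk⟩ (f a h1 w2) (f b h2 w3) (f c h3 w4) x x3 x4 x5

end Big

end Cfsg.Lib.Mult.Cl
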