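/-
Central extensions of orthogonal groups: the groups of Eichler elements lift.
-/
import Cfsg.Agent.Lib.Mult.ClO

set_option autoImplicit false

namespace Cfsg.Lib.Mult.Cl

open Module Subgroup Cfsg.Lib.Forms Cfsg.Lib.Forms.Form Cfsg.Lib.CAut Cfsg.Lib.Twist Cfsg.Lib.Chev
open scoped commutatorElement IsMulCommutative

variable {F : Type*} [Field F] [Finite F] {V : Type*} [AddCommGroup V] [Module F V] [FiniteDimensional F V] {D : Form (quadKind F) V}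
  {E : Type*} [Group E] {π : E →* D.E} (h : CExt π) (H : Big D)

omit [Finite F] [FiniteDimensional F V] in
theorem Or.comm_ro {e z m n : V} (hz : Or D e z) (hm : Or D z m) (m1 : D.B e m = 0) (n1 : D.B e n = 0) (n2 : D.B z n = 0) :
    ⁅ro D z m, ro D e n⁆ = ro D e (D.B m n • z) := by
  have o : Or D e n := ⟨hz.Q, n1⟩
  rw [commutatorElement_def, o.conj, hm.fx hz.ze (D.eq_zero_symm m1), hm.ap' n2, add_comm, (hz.smul _).ro_add o, mul_inv_cancel_right]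

omit [Finite F] [FiniteDimensional F V] in
theorem sec_conj {a : D.E} {u : E} (e : Cm π a (π u)) : h.sec a * u * (h.sec a)⁻¹ = u := by
  rw [mul_inv_eq_iff_eq_mul]; exact e _ _ (h.map_sec a) rfl

include H

omit [Finite F] in
theorem br_eq_B {e f g x y : V} (hf : D.IsHyp f g) (f1 : Or D e f) (g1 : Or D e g) (hx : Or D e x) (hy : Or D e y) :
    h.br (ro D e x) (ro D e y) = h.br (ro D e (D.B x y • f)) (ro D e g) := by
  have o : ∀ {x}, x ∈ D.perp (F ∙ e) → Or D e x := fun hx => ⟨f1.Q, D.mem_perp_span_singleton.1 hx⟩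
  have o' : ∀ {x}, D.B e x = 0 → x ∈ D.perp (F ∙ e) := D.mem_perp_span_singleton.2
  obtain ⟨w, m, w1, m1, e1⟩ := H.pair f1.Q f1.Q hf.Q_e hf.Q_f
  refine biadd (X := D.perp (F ∙ e)) (b := fun x y => h.br (ro D e x) (ro D e y)) (fun x hx x' hx' y hy => ?_) (fun x hx y hy y' hy' => ?_)
    (fun k hk m hm c x hx y hy => ?_) (o' f1.B) (o' g1.B) hf ⟨o' w1.1, D.mem_hp.2 w1.2.2⟩ ⟨o' m1.1, D.mem_hp.2 m1.2.2⟩ e1 (o' hx.B) (o' hy.B)
  · simp only [(o hx).ro_add (o hx'), h.br_mul_left' ((o hx').comm (o hy))]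
  · simp only [(o hy).ro_add (o hy'), h.br_mul_right' ((o hx).comm (o hy'))]
  · have := h.br_conj ((o hx).comm (o hy)) (ro D k m)
    rwa [(o hx).conj, (o hy).conj, c.fx (o hk).ze (o hm).ze] at this

include h in
theorem cm_perp {e x y : V} (hx : Or D e x) (hy : Or D e y) (e1 : D.B x y = 0) : Cm π (ro D e x) (ro D e y) := by
  obtain ⟨f, g, hf, f1, g1⟩ := H.hyp e e
  rw [h.cm_iff, br_eq_B h H hf ⟨hx.Q, f1.1⟩ ⟨hx.Q, g1.1⟩ hx hy, e1, zero_smul, hx.ro_zero, ← h.cm_iff]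
  exact (h.cm_one _).symm

include h in
theorem cm_long {e z k m : V} (hz : Or D e z) (z0 : D.Q z = 0) (hk : Or D e k) (k1 : D.B z k = 0) (hm : Or D k m) (m1 : D.B e m = 0)
    (m2 : D.B z m = 0) : Cm π (ro D k m) (ro D e z) := by
  have c : ∀ {g : D.E}, g.1.1 e = e → g.1.1 z = z → ro D e z * g = g * ro D e z := fun a b => (hz.conj_fx a b).symm
  let N : AddSubgroup V :=
    { carrier := {m | Or D k m ∧ Cm π (ro D e z) (ro D k m)}
      add_mem' := fun a b => ⟨a.1.add b.1, a.1.ro_add b.1 ▸ (h.cmSub _).mul_mem a.2 b.2⟩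
      zero_mem' := ⟨⟨hm.Q, by simp⟩, hm.ro_zero ▸ h.cm_one _⟩
      neg_mem' := fun a => ⟨a.1.neg, a.1.ro_neg ▸ (h.cmSub _).inv_mem a.2⟩ }
  refine (H.span (N := N) hz hk z0 hm.Q (fun g g1 g2 g3 m m1 m2 m3 => ?_) m1 m2 hm.B).2.symm
  have o : Or D k m := ⟨hm.Q, m3⟩
  have o' := g3 ▸ o.act g
  refine ⟨sub_eq_add_neg _ m ▸ o'.add o.neg, ?_⟩
  have := h.cm_comm (c g1 g2) (c (o.fx hk.ze (D.eq_zero_symm m1)) (o.fx (D.eq_zero_symm k1) (D.eq_zero_symm m2)))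
  rwa [commutatorElement_def, o.conj, g3, ← o.ro_neg, ← o'.ro_add o.neg, ← sub_eq_add_neg] at this

theorem br_congr {e z m n m' n' : V} (hz : Or D e z) (hm : Or D z m) (m1 : D.B e m = 0) (n1 : D.B e n = 0) (n2 : D.B z n = 0)
    (m2 : D.B z m' = 0) (m3 : D.B e m' = 0) (n3 : D.B e n' = 0) (n4 : D.B z n' = 0) (e1 : D.B m n = D.B m' n') :
    h.br (ro D z m) (ro D e n) = h.br (ro D z m') (ro D e n') := by
  obtain ⟨f, g, hf, f1, g1⟩ := H.hyp e z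
  obtain ⟨w, u, w1, u1, e2⟩ := H.pair hz.Q hm.Q hf.Q_e hf.Q_f
  have o : ∀ {x}, x ∈ D.perp (Submodule.span F {e, z}) → Or D e x := fun hx => ⟨hz.Q, (D.mem_perp_span_pair.1 hx).1⟩
  have o' : ∀ {x}, x ∈ D.perp (Submodule.span F {e, z}) → Or D z x := fun hx => ⟨hm.Q, (D.mem_perp_span_pair.1 hx).2⟩
  have s : ∀ c : F, ro D e (c • z) = ro D z (-(c • e)) := fun c => by
    rw [← hz.ro_smul, (Or.mk hm.Q (by simp [hz.ze])).ro_swap (D.Q_smul_of_Q hz.Q c)]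
  have c : ∀ {x y}, x ∈ D.perp (Submodule.span F {e, z}) → y ∈ D.perp (Submodule.span F {e, z}) →
      π (h.br (ro D z x) (ro D e y)) = ro D e (D.B x y • z) := fun a b => by
    rw [h.map_br, hz.comm_ro (o' a) (o a).B (o b).B (o' b).B]
  have k := fun {x y} => biadd (X := D.perp (Submodule.span F {e, z})) (b := fun x y => h.br (ro D z x) (ro D e y)) (fun x hx x' hx' y hy => by
      rw [add_comm, (o' hx').ro_add (o' hx), h.br_mul_left, sec_conj]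
      rw [c hx hy, s]
      exact cm_perp h H (o' hx') ⟨hm.Q, by simp [hz.ze]⟩ (by simp [(o hx').ze]))
    (fun x hx y hy y' hy' => by
      rw [(o hy).ro_add (o hy'), h.br_mul_right, sec_conj]
      rw [c hx hy']
      exact cm_perp h H (o hy) (hz.smul _) (by simp [(o' hy).ze]))
    (fun k hk m hm' d x hx y hy => by
      have := h.conj_br (h.sec (ro D k m)) (ro D z x) (ro D e y)
      rw [sec_conj, h.map_sec, (o' hx).conj, (o hy).conj, d.fx (o hk).ze (o hm').ze, d.fx (o' hk).ze (o' hm').ze] at this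
      · exact this.symm
      rw [c hx hy]
      exact cm_long h H (hz.smul _) (D.Q_smul_of_Q hm.Q _) (o hk) (by simp [(o' hk).B]) d (o hm').B (by simp [(o' hm').B]))
    (D.mem_perp_span_pair.2 f1) (D.mem_perp_span_pair.2 g1) hf ⟨D.mem_perp_span_pair.2 ⟨w1.1, w1.2.1⟩, D.mem_hp.2 w1.2.2⟩
    ⟨D.mem_perp_span_pair.2 ⟨u1.1, u1.2.1⟩, D.mem_hp.2 u1.2.2⟩ e2 (x := x) (y := y)
  exact (k (D.mem_perp_span_pair.2 ⟨m1, hm.B⟩) (D.mem_perp_span_pair.2 ⟨n1, n2⟩)).trans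
    (e1 ▸ (k (D.mem_perp_span_pair.2 ⟨m3, m2⟩) (D.mem_perp_span_pair.2 ⟨n3, n4⟩)).symm)

include h in
theorem cm_all {e x y : V} (e0 : e ≠ 0) (hx : Or D e x) (hy : Or D e y) : Cm π (ro D e x) (ro D e y) := by
  obtain ⟨a, b, hab, ⟨a1, -⟩, b1, -⟩ := H.hyp e e
  obtain ⟨f, g, hf, f1, g1⟩ := H.hyp e a
  obtain ⟨c, hc⟩ := H.nd.exists_isHyp hx.Q e0
  obtain ⟨b', b2, b3, b4⟩ := adj hf b
  obtain ⟨c', c2, c3, c4⟩ := adj hf (c - D.B a c • b)
  have b5 := (b4 e (D.eq_zero_symm f1.1) (D.eq_zero_symm g1.1)).trans b1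
  have b6 := (b4 a (D.eq_zero_symm f1.2) (D.eq_zero_symm g1.2)).trans hab.B_ef
  have c5 := c4 e (D.eq_zero_symm f1.1) (D.eq_zero_symm g1.1)
  have c6 := c4 a (D.eq_zero_symm f1.2) (D.eq_zero_symm g1.2)
  simp only [D.B_lin, hc.B_ef, b1, hab.B_ef, mul_zero, sub_zero, mul_one, sub_self] at c5 c6
  rw [h.cm_iff, br_eq_B h H hf ⟨hx.Q, f1.1⟩ ⟨hx.Q, g1.1⟩ hx hy]
  have z0 := D.Q_smul_of_Q hf.Q_e (D.B x y)
  have z1 : D.B e (D.B x y • f) = 0 ∧ D.B a (D.B x y • f) = 0 := by simp [f1]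
  have z2 : D.B b' (D.B x y • f) = 0 ∧ D.B c' (D.B x y • f) = 0 := by simp [D.eq_zero_symm b2, D.eq_zero_symm c2]
  generalize D.B x y • f = z at *
  have oa : Or D e a := ⟨hx.Q, a1⟩
  have oe : Or D a e := ⟨hab.Q_e, oa.ze⟩
  have s : ∀ {u}, D.Q u = 0 → D.B e u = 0 → D.B a u = 0 → ro D (e + a) u = ro D e u * ro D a u := fun {u} u0 u1 u2 => by
    have p1 : Or D u e := ⟨u0, D.eq_zero_symm u1⟩
    have p2 : Or D u a := ⟨u0, D.eq_zero_symm u2⟩
    rw [(p1.add p2).ro_swap (by rw [D.Q_add_of_B a1, hx.Q, hab.Q_e, add_zero]), p1.ro_swap hx.Q, p2.ro_swap hab.Q_e, neg_add, p1.neg.ro_add p2.neg]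
  have ez : Or D e z := ⟨hx.Q, z1.1⟩
  have eg : Or D e g := ⟨hx.Q, g1.1⟩
  have az : Or D a z := ⟨hab.Q_e, z1.2⟩
  have ag : Or D a g := ⟨hab.Q_e, g1.2⟩
  have ac : Or D a c' := ⟨hab.Q_e, c6⟩
  have eb : Or D e b' := ⟨hx.Q, b5⟩
  have t1 := h.br_conj (ez.comm eg) (ro D a c')
  have t2 := h.br_conj (az.comm ag) (ro D e b')
  rw [ez.conj, eg.conj, ac.ap' oe.B, ac.fx az.B z2.2, ac.fx ag.B (D.eq_zero_symm c3), quad_symm D c', c5, one_smul] at t1
  rw [az.conj, ag.conj, eb.ap' oa.B, eb.fx ez.B z2.1, eb.fx eg.B (D.eq_zero_symm b3), quad_symm D b', b6, one_smul, add_comm, t1] at t2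
  have t3 := br_congr h H oa az ez.B eg.B ag.B ag.B eg.B ez.B az.B (quad_symm D _ _)
  have t4 : π (h.br (ro D a z) (ro D e g)) = ro D e (D.B z g • a) := by rw [h.map_br, oa.comm_ro az ez.B eg.B ag.B]
  have t5 := h.map_br_of_comm (ez.comm eg)
  have t6 := sec_conj h (u := h.br (ro D a z) (ro D e g)) (t4 ▸ cm_perp h H ez (oa.smul _) (by simp [az.ze]))
  have t7 := sec_conj h (u := h.br (ro D a z) (ro D e g)) (t4 ▸ cm_perp h H eg (oa.smul _) (by simp [ag.ze]))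
  rw [s z0 ez.B az.B, s hf.Q_f eg.B ag.B, h.br_mul_left, h.br_mul_right, h.br_mul_right, ← t2, h.br_symm (ro D a g) (ro D e z), ← t3] at t1
  generalize h.br (ro D a z) (ro D e g) = u, h.br (ro D e z) (ro D e g) = v, h.sec (ro D e z) = x, h.sec (ro D e g) = y at *
  rw [h.conj_ker t5, ← conj_inv, t7, ← conj_mul, t6, h.conj_ker t5, mul_assoc, ← mul_assoc v, ← mul_assoc u,
    h.conj_ker (by rw [map_mul, t5, one_mul])] at t1
  exact eq_one_of t1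

section

variable {e : V} (o : Or D e e) (e0 : e ≠ 0)

omit H [Finite F] [FiniteDimensional F V] in
variable (π) in
/-- The preimage of the group of Eichler elements with centre `e`. -/
def Ae : Subgroup E where
  carrier := {g | ∃ x, Or D e x ∧ π g = ro D e x}
  mul_mem' := fun ⟨_, a, b⟩ ⟨_, c, d⟩ => ⟨_, a.add c, by rw [map_mul, b, d, a.ro_add c]⟩
  one_mem' := ⟨0, by simpa using o.smul 0, by rw [map_one, o.ro_zero]⟩
  inv_mem' := fun ⟨_, a, b⟩ => ⟨_, a.neg, by rw [map_inv, b, a.ro_neg]⟩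

omit H [Finite F] [FiniteDimensional F V] in
theorem map_br_ro {k : D.E} {x : V} (hk : k.1.1 e = e) (hx : Or D e x) : π (h.br k (ro D e x)) = ro D e (k.1.1 x - x) := by
  have := hx.act k
  rw [hk] at this
  rw [h.map_br, commutatorElement_def, hx.conj, hk, ← hx.ro_neg, sub_eq_add_neg, this.ro_add hx.neg]

open Classical in
omit H [Finite F] [FiniteDimensional F V] in
/-- Commutators with lifts of Eichler elements. -/
noncomputable def dd (k : D.E) (x : V) : Ae π o := if c : k.1.1 e = e ∧ D.B e x = 0 then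
  ⟨h.br k (ro D e x), _, ⟨o.Q, by rw [map_sub, c.2, ← c.1, B_isom, c.2, sub_self]⟩, map_br_ro h c.1 ⟨o.Q, c.2⟩⟩ else 1

omit H [Finite F] [FiniteDimensional F V] in
theorem dd_val {k : D.E} {x : V} (hk : k.1.1 e = e) (hx : D.B e x = 0) : (dd h o k x : E) = h.br k (ro D e x) := by rw [dd, dif_pos ⟨hk, hx⟩]

omit H [Finite F] [FiniteDimensional F V] in
theorem conj_Ae {g a : E} {x : V} (hg : (π g).1.1 e = e) (hx : D.B e x = 0) (ha : π a = ro D e x) : g * a * g⁻¹ = dd h o (π g) x * a := by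
  rw [dd_val h o hg hx, h.br_eq rfl ha, commutatorElement_def, inv_mul_cancel_right]

omit H [Finite F] [FiniteDimensional F V] in
theorem conj_dd {g : E} {z m n : V} (hg : (π g).1.1 e = e) (hz : Or D e z) (hm : Or D z m) (m1 : D.B e m = 0) (n1 : D.B e n = 0) :
    g * dd h o (ro D z m) n * g⁻¹ = dd h o (ro D ((π g).1.1 z) ((π g).1.1 m)) ((π g).1.1 n) := by
  have a : ∀ x, D.B e ((π g).1.1 x) = D.B e x := fun x => by nth_rewrite 1 [← hg]; simp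
  rw [dd_val h o (hm.fx hz.ze (D.eq_zero_symm m1)) n1, h.conj_br, hm.conj, (Or.mk o.Q n1).conj, hg,
    dd_val h o ((hm.act _).fx (D.eq_zero_symm ((a z).trans hz.B)) (D.eq_zero_symm ((a m).trans m1))) ((a n).trans n1)]

theorem dd_congr {z m n m' n' : V} (hz : Or D e z) (hm : Or D z m) (m1 : D.B e m = 0) (n1 : D.B e n = 0) (n2 : D.B z n = 0)
    (m2 : D.B z m' = 0) (m3 : D.B e m' = 0) (n3 : D.B e n' = 0) (n4 : D.B z n' = 0) (e1 : D.B m n = D.B m' n') :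
    dd h o (ro D z m) n = dd h o (ro D z m') n' := Subtype.ext (by
  rw [dd_val h o (hm.fx hz.ze (D.eq_zero_symm m1)) n1, dd_val h o ((Or.mk hm.Q m2).fx hz.ze (D.eq_zero_symm m3)) n3,
    br_congr h H hz hm m1 n1 n2 m2 m3 n3 n4 e1])

include e0

include h in
theorem Ae_comm : IsMulCommutative (Ae π o) := ⟨⟨fun ⟨_, _, a, b⟩ ⟨_, _, c, d⟩ => Subtype.ext (cm_all h H e0 a c _ _ b d)⟩⟩

theorem dd_add {k : D.E} {x y : V} (hk : k.1.1 e = e) (hx : D.B e x = 0) (hy : D.B e y = 0) : dd h o k (x + y) = dd h o k x * dd h o k y := by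
  obtain ⟨w, w1, w2⟩ := (dd h o k y).2
  refine Subtype.ext ?_
  rw [coe_mul, dd_val h o hk hx, dd_val h o hk (by simp [hx, hy]), (Or.mk o.Q hx).ro_add ⟨o.Q, hy⟩, h.br_mul_right, ← dd_val h o hk hy,
    sec_conj h (w2 ▸ cm_all h H e0 ⟨o.Q, hx⟩ w1)]

omit H [Finite F] [FiniteDimensional F V] e0 in
theorem dd_mul {k k' : D.E} {x : V} (hk : k.1.1 e = e) (hk' : k'.1.1 e = e) (hx : D.B e x = 0) :
    dd h o (k * k') x = dd h o k (k'.1.1 x - x) * dd h o k' x * dd h o k x := by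
  refine Subtype.ext ?_
  have a : D.B e (k'.1.1 x - x) = 0 := by rw [map_sub, hx, ← hk', B_isom, hx, sub_self]
  rw [coe_mul, coe_mul, dd_val h o (by simp [hk, hk']) hx, h.br_mul_left, conj_Ae h o (by simp [hk]) a (map_br_ro h hk' ⟨o.Q, hx⟩), h.map_sec,
    dd_val h o hk hx, dd_val h o hk' hx]

theorem dd_self {x y : V} (hx : D.B e x = 0) (hy : D.B e y = 0) : dd h o (ro D e x) y = 1 := Subtype.ext (by
  rw [dd_val h o ((Or.mk o.Q hx).fx o.B (D.eq_zero_symm hx)) hy]; exact h.cm_iff.1 (cm_all h H e0 ⟨o.Q, hx⟩ ⟨o.Q, hy⟩))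

/-- A frame. -/
structure Fr (e a b p q : V) : Prop where
  hyp : D.IsHyp a b
  ea : D.B e a = 0
  eb : D.B e b = 0
  hp : D.B e p = 0 ∧ D.B a p = 0 ∧ D.B b p = 0
  hq : D.B e q = 0 ∧ D.B a q = 0 ∧ D.B b q = 0
  pq : D.B p q = 1

/-- The lifts attached to a singular vector. -/
noncomputable def tt (p q a : V) (c : F) : Ae π o := dd h o (ro D a (c • p)) q

/-- The lifts attached to a hyperbolic pair. -/
noncomputable def ph (p q a b : V) (c : F) (n : V) : Ae π o := dd h o (ro D a n) (c • b) * tt h o p q a (c * D.Q n)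

variable {a b p q : V} (T : Fr (D := D) e a b p q)
include T

omit H [Finite F] [FiniteDimensional F V] e0 in
theorem Fr.symm : Fr (D := D) e b a p q :=
  ⟨⟨T.hyp.Q_f, T.hyp.Q_e, by rw [quad_symm, T.hyp.B_ef]⟩, T.eb, T.ea, ⟨T.hp.1, T.hp.2.2, T.hp.2.1⟩, ⟨T.hq.1, T.hq.2.2, T.hq.2.1⟩, T.pq⟩

omit e0 in
theorem dd_eq_tt {m n : V} (m1 : D.B e m = 0) (m2 : D.B a m = 0) (n1 : D.B e n = 0) (n2 : D.B a n = 0) :
    dd h o (ro D a m) n = tt h o p q a (D.B m n) :=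
  dd_congr h H o ⟨o.Q, T.ea⟩ ⟨T.hyp.Q_e, m2⟩ m1 n1 n2 (by simp [T.hp]) (by simp [T.hp]) T.hq.1 T.hq.2.1 (by simp [T.pq])

theorem tt_add (c d : F) : tt h o p q a (c + d) = tt h o p q a c * tt h o p q a d := by
  have k := fun c : F => dd_eq_tt h H o T T.hp.1 T.hp.2.1 (n := c • q) (by simp [T.hq]) (by simp [T.hq])
  simp only [D.B_lin, T.pq, mul_one] at k
  rw [← k, ← k, ← k, add_smul, dd_add h H o e0 ((Or.mk T.hyp.Q_e T.hp.2.1).fx (D.eq_zero_symm T.ea) (D.eq_zero_symm T.hp.1))] <;> simp [T.hq]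

theorem tt_zero : tt h o p q a 0 = 1 := eq_one_of (a := tt h o p q a 0) (by rw [← tt_add h H o e0 T, add_zero])

omit H [Finite F] [FiniteDimensional F V] e0 in
theorem map_tt (c : F) : π (tt h o p q a c) = ro D e (c • a) := by
  have o' : Or D a (c • p) := ⟨T.hyp.Q_e, by simp [T.hp]⟩
  have k := o'.fx (D.eq_zero_symm T.ea) (by simp [D.eq_zero_symm T.hp.1])
  rw [tt, dd_val h o k T.hq.1, map_br_ro h k ⟨o.Q, T.hq.1⟩, o'.ap' T.hq.2.1]; simp [T.pq]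

omit H [Finite F] [FiniteDimensional F V] e0 in
theorem Fr.ap {n : V} (n2 : D.B a n = 0) (n3 : D.B b n = 0) (c : F) : (ro D a n).1.1 (c • b) - c • b = -(c • n) + (-(c * D.Q n)) • a := by
  rw [map_smul, (Or.mk T.hyp.Q_e n2).ap, T.hyp.B_ef, D.eq_zero_symm n3]; module

omit H [Finite F] [FiniteDimensional F V] e0 in
theorem map_ph {n : V} (n1 : D.B e n = 0) (n2 : D.B a n = 0) (n3 : D.B b n = 0) (c : F) : π (ph h o p q a b c n) = ro D e (-(c • n)) := by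
  have k := (Or.mk T.hyp.Q_e n2).fx (D.eq_zero_symm T.ea) (D.eq_zero_symm n1)
  rw [ph, coe_mul, map_mul, map_tt h o T, dd_val h o k (by simp [T.eb]), map_br_ro h k ⟨o.Q, by simp [T.eb]⟩, T.ap n2 n3,
    ← Or.ro_add ⟨o.Q, by simp [n1, T.ea]⟩ ⟨o.Q, by simp [T.ea]⟩]
  simp

theorem ph_add {n n' : V} (n1 : D.B e n = 0) (n2 : D.B a n = 0) (n4 : D.B e n' = 0) (n5 : D.B a n' = 0) (n6 : D.B b n' = 0) (c : F) :
    ph h o p q a b c (n + n') = ph h o p q a b c n * ph h o p q a b c n' := by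
  have := Ae_comm h H o e0
  have o1 : Or D a n := ⟨T.hyp.Q_e, n2⟩
  have o2 : Or D a n' := ⟨T.hyp.Q_e, n5⟩
  have k := tt_add h H o e0 T (-(c * D.B n n')) (c * D.Q (n + n'))
  rw [show -(c * D.B n n') + c * D.Q (n + n') = c * D.Q n + c * D.Q n' by rw [quad_Q_add]; ring, tt_add h H o e0 T] at k
  rw [ph, ph, ph, o1.ro_add o2, dd_mul h o (o1.fx (D.eq_zero_symm T.ea) (D.eq_zero_symm n1)) (o2.fx (D.eq_zero_symm T.ea) (D.eq_zero_symm n4))
    (by simp [T.eb]), T.ap n5 n6, dd_eq_tt h H o T n1 n2 (by simp [n4, T.ea]) (by simp [n5, o1.ee]), mul_mul_mul_comm _ _ (dd h o _ _), k]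
  simp only [D.B_lin, o1.ze, mul_zero, add_zero]
  ac_rfl

theorem ph_conj {g : D.E} (g1 : g.1.1 e = e) (g2 : g.1.1 a = a) (g3 : g.1.1 b = b) {n : V} (n1 : D.B e n = 0) (n2 : D.B a n = 0)
    (n3 : D.B b n = 0) (c : F) : ph h o p q a b c (g.1.1 n - n) = dd h o g (-(c • n)) := by
  obtain ⟨g, rfl⟩ := h.surj g
  have s : ∀ x {y}, (π g).1.1 y = y → D.B y ((π g).1.1 x) = D.B y x := fun x y e => by nth_rewrite 1 [← e]; simp
  have k := ph_add h H o e0 T (n := (π g).1.1 n - n) (by simp [s _ g1]) (by simp [s _ g2]) n1 n2 n3 c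
  refine mul_right_cancel (k.symm.trans (Subtype.ext ?_))
  rw [coe_mul, ← conj_Ae h o g1 (by simp [n1]) (map_ph h o T n1 n2 n3 c), ph, ph, coe_mul, coe_mul, ← conj_mul, tt, tt,
    conj_dd h o g1 ⟨o.Q, T.ea⟩ ⟨T.hyp.Q_e, n2⟩ n1 (by simp [T.eb]), conj_dd h o g1 ⟨o.Q, T.ea⟩ ⟨T.hyp.Q_e, by simp [T.hp]⟩ (by simp [T.hp]) T.hq.1,
    g2, map_smul, g3, sub_add_cancel, dd_eq_tt h H o T (m := (π g).1.1 (_ • p)) (by simp [s _ g1, T.hp]) (by simp [s _ g2, T.hp])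
      (by simp [s _ g1, T.hq]) (by simp [s _ g2, T.hq])]
  simp [T.pq, tt]

theorem ph_eq {n : V} (n1 : D.B e n = 0) (n2 : D.B a n = 0) (n3 : D.B b n = 0) (c : F) :
    ph h o p q a b c n = ph h o p q a b 1 (c • n) ∧ ph h o p q b a c n = ph h o p q a b 1 (c • n) := by
  have k : ∀ {a b}, Fr (D := D) e a b p q → ∀ c, ph h o p q a b c 0 = 1 := fun T c =>
    eq_one_of (a := ph h o p q _ _ c 0) (by rw [← ph_add h H o e0 T, add_zero] <;> simp)
  have k' : ∀ {a b}, Fr (D := D) e a b p q → ∀ c n, D.B e n = 0 → D.B a n = 0 → D.B b n = 0 → ph h o p q a b c (-n) = (ph h o p q a b c n)⁻¹ :=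
    fun T c n a b d => eq_inv_of_mul_eq_one_left (by rw [← ph_add h H o e0 T, neg_add_cancel, k T] <;> simp [*])
  let N : AddSubgroup V :=
    { carrier := {n | (D.B e n = 0 ∧ D.B a n = 0 ∧ D.B b n = 0) ∧ ph h o p q a b c n = ph h o p q a b 1 (c • n) ∧
        ph h o p q b a c n = ph h o p q a b 1 (c • n)}
      add_mem' := fun ⟨⟨a1, a2, a3⟩, a4, a5⟩ ⟨⟨b1, b2, b3⟩, b4, b5⟩ => ⟨by simp [*], by
        rw [smul_add, ph_add h H o e0 T, ph_add h H o e0 T, ph_add h H o e0 T.symm] <;> simp [*]⟩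
      zero_mem' := ⟨by simp, by simp [k T, k T.symm]⟩
      neg_mem' := fun ⟨⟨a1, a2, a3⟩, a4, a5⟩ => ⟨by simp [*], by rw [smul_neg, k' T, k' T, k' T.symm] <;> simp [*]⟩ }
  refine (H.span (N := N) ⟨o.Q, T.ea⟩ ⟨o.Q, T.eb⟩ T.hyp.Q_e T.hyp.Q_f (fun g g1 g2 g3 m m1 m2 m3 => ⟨?_, ?_⟩) n1 n2 n3).2
  · have s : ∀ x {y}, g.1.1 y = y → D.B y (g.1.1 x) = D.B y x := fun x y e => by nth_rewrite 1 [← e]; simp
    simp [s _ g1, s _ g2, s _ g3]
  · rw [smul_sub, ← map_smul, ph_conj h H o e0 T g1 g2 g3, ph_conj h H o e0 T g1 g2 g3, ph_conj h H o e0 T.symm g1 g3 g2] <;> simp [*]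

theorem dd_of_ne {z m n : V} (hz : Or D e z) (hm : Or D z m) (m1 : D.B e m = 0) (n1 : D.B e n = 0) (n2 : D.B z n = 0) (h0 : D.B a z ≠ 0) :
    ∃ c d w, (D.B e w = 0 ∧ D.B a w = 0 ∧ D.B b w = 0) ∧ dd h o (ro D z m) n = tt h o p q a c * tt h o p q b d * ph h o p q a b 1 w := by
  have := Ae_comm h H o e0
  have a0 := D.B_self_of_Q T.hyp.Q_e
  set w := (D.B a z)⁻¹ • (D.B b z • a + D.B a z • b - z) with hw
  have w1 : D.B e w = 0 ∧ D.B a w = 0 ∧ D.B b w = 0 := by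
    simp [hw, T.ea, T.eb, hz.B, a0, T.hyp.B_ef, T.symm.hyp.B_ef, D.B_self_of_Q T.hyp.Q_f]
  have o1 : Or D a w := ⟨T.hyp.Q_e, w1.2.1⟩
  have k1 := o1.fx (D.eq_zero_symm T.ea) (D.eq_zero_symm w1.1)
  have k2 : (ro D a w).1.1 (D.B a z • b) = z := by
    have : D.B a z * D.Q w = -D.B b z := by
      simp only [hw, quad_Q_smul, quad_Q_sub, quad_Q_add, T.hyp.Q_e, T.hyp.Q_f, hm.Q, D.B_lin, T.hyp.B_ef, RingHom.id_apply]
      field_simp; ring
    rw [← sub_add_cancel ((ro D a w).1.1 _) (D.B a z • b), T.ap w1.2.1 w1.2.2, this, hw, smul_inv_smul₀ h0]; module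
  obtain ⟨g, hg⟩ := h.surj (ro D a w)
  rw [← hg] at k1 k2
  obtain ⟨m, rfl⟩ := (π g).1.1.surjective m
  obtain ⟨n, rfl⟩ := (π g).1.1.surjective n
  have s : ∀ x, D.B e ((π g).1.1 x) = D.B e x := fun x => by nth_rewrite 1 [← k1]; simp
  have s' : ∀ x, D.B z ((π g).1.1 x) = 0 → D.B b x = 0 := fun x => by rw [← k2]; simp [h0]
  rw [s] at m1 n1
  have o2 : Or D b m := ⟨T.hyp.Q_f, s' _ hm.B⟩
  have k3 := conj_dd h o k1 ⟨o.Q, by simp [T.eb]⟩ (o2.smul' (D.B a z)) m1 n1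
  rw [k2, o2.ro_smul, dd_eq_tt h H o T.symm (by simp [m1]) (by simp [o2.B]) n1 (s' _ n2), conj_Ae h o k1 (by simp [T.eb]) (map_tt h o T.symm _), hg,
    ← coe_mul, Subtype.coe_inj] at k3
  generalize D.B (D.B a z • m) n = c at k3
  refine ⟨-(c * D.Q w), c, c • w, by simp [w1], ?_⟩
  have k4 := tt_add h H o e0 T (-(c * D.Q w)) (c * D.Q w)
  rw [neg_add_cancel, tt_zero h H o e0 T] at k4
  rw [← (ph_eq h H o e0 T w1.1 w1.2.1 w1.2.2 c).1, ph, hg, ← k3, ← mul_one (_ * tt h o p q b c), k4]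
  ac_rfl

theorem dd_form {z m n : V} (hz : Or D e z) (hm : Or D z m) (m1 : D.B e m = 0) (n1 : D.B e n = 0) (n2 : D.B z n = 0) :
    ∃ c d w, (D.B e w = 0 ∧ D.B a w = 0 ∧ D.B b w = 0) ∧ dd h o (ro D z m) n = tt h o p q a c * tt h o p q b d * ph h o p q a b 1 w := by
  have := Ae_comm h H o e0
  by_cases h1 : D.B a z = 0
  · by_cases h2 : D.B b z = 0
    · refine ⟨0, 0, -(D.B m n • z), by simp [*, hz.B], ?_⟩
      have o1 : Or D z a := ⟨hm.Q, D.eq_zero_symm h1⟩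
      rw [ph, Q_neg, D.Q_smul_of_Q hm.Q, mul_zero, tt_zero h H o e0 T, tt_zero h H o e0 T.symm, one_mul, one_mul, mul_one, one_smul,
        ← (Or.mk T.hyp.Q_e (by simp [h1])).ro_swap (D.Q_smul_of_Q hm.Q _), o1.ro_smul]
      exact dd_congr h H o hz hm m1 n1 n2 (by simp [o1.B]) (by simp [T.ea]) T.eb (D.eq_zero_symm h2) (by simp [T.hyp.B_ef])
    · obtain ⟨c, d, w, w1, e1⟩ := dd_of_ne h H o e0 T.symm hz hm m1 n1 n2 h2
      exact ⟨d, c, w, ⟨w1.1, w1.2.2, w1.2.1⟩, by rw [e1, (ph_eq h H o e0 T w1.1 w1.2.2 w1.2.1 1).2, one_smul, mul_comm (tt h o p q a _)]⟩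
  · exact dd_of_ne h H o e0 T hz hm m1 n1 n2 h1

end

include h in
theorem cpl_quad {e : V} (e0 : e ≠ 0) (e1 : D.Q e = 0) : ∃ M, Cpl (D.E.subtype.comp π) e M := by
  have o : Or D e e := ⟨e1, D.B_self_of_Q e1⟩
  have := Ae_comm h H o e0
  obtain ⟨a, b, hab, ⟨a1, -⟩, b1, -⟩ := H.hyp e e
  obtain ⟨q, p, q1, p1, e2⟩ := H.pair e1 hab.Q_e hab.Q_f e1
  have T : Fr (D := D) e a b p q := ⟨hab, a1, b1, ⟨p1.1, p1.2.1, p1.2.2.1⟩, ⟨q1.1, q1.2.1, q1.2.2.1⟩, e2⟩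
  let S : Set (Ae π o) := {g | ∃ z m n, Or D e z ∧ Or D z m ∧ D.B e m = 0 ∧ D.B e n = 0 ∧ D.B z n = 0 ∧ g = dd h o (ro D z m) n}
  refine ⟨(closure S).map (Ae π o).subtype, ?_, fun k hk => ?_, ?_, fun g hg => ?_⟩
  · rintro _ ⟨⟨g, x, hx, e3⟩, -, rfl⟩
    show (π g).1 ∈ _
    rw [e3, hx.val]; exact eich_mem_eichAt _
  · rcases hk with rfl | ⟨x, d, hd, rfl⟩
    · exact ⟨1, one_mem _, map_one _⟩
    let N : AddSubgroup V :=
      { carrier := {x | Or D e x ∧ ∃ m ∈ closure S, π m = ro D e x}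
        add_mem' := fun ⟨a1, m, a2, a3⟩ ⟨b1, m', b2, b3⟩ => ⟨a1.add b1, _, mul_mem a2 b2, by rw [coe_mul, map_mul, a3, b3, a1.ro_add b1]⟩
        zero_mem' := ⟨⟨e1, by simp⟩, 1, one_mem _, by simp [o.ro_zero]⟩
        neg_mem' := fun ⟨a1, m, a2, a3⟩ => ⟨a1.neg, _, inv_mem a2, by rw [coe_inv, map_inv, a3, a1.ro_neg]⟩ }
    obtain ⟨x1, m, m1, m2⟩ := sing_ind (N := N) (X := D.perp (F ∙ e)) hab (D.mem_perp_span_singleton.2 a1) (D.mem_perp_span_singleton.2 b1)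
      (fun z hz z0 => by
        obtain ⟨n, m, n1, m1, e3⟩ := H.pair e1 z0 z0 z0
        have o1 : Or D e z := ⟨e1, D.mem_perp_span_singleton.1 hz⟩
        have o2 : Or D z m := ⟨z0, m1.2.1⟩
        refine ⟨o1, _, subset_closure ⟨z, m, n, o1, o2, m1.1, n1.1, n1.2.1, rfl⟩, ?_⟩
        rw [dd_val h o (o2.fx o1.ze (D.eq_zero_symm m1.1)) n1.1, h.map_br, o1.comm_ro o2 m1.1 n1.1 n1.2.1, e3, one_smul])
      (D.mem_perp_span_singleton.2 hd.B_ez)
    exact ⟨m, ⟨m, m1, rfl⟩, by obtain rfl := hd.quad_eq; exact (congrArg Subtype.val m2).trans x1.val⟩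
  · rintro _ ⟨g, hg, rfl⟩ e3
    obtain ⟨c, d, w, w1, rfl⟩ : ∃ c d w, (D.B e w = 0 ∧ D.B a w = 0 ∧ D.B b w = 0) ∧
        g = tt h o p q a c * tt h o p q b d * ph h o p q a b 1 w := by
      clear e3
      have k : ∀ c d w c' d' w', (D.B e w = 0 ∧ D.B a w = 0 ∧ D.B b w = 0) → (D.B e w' = 0 ∧ D.B a w' = 0 ∧ D.B b w' = 0) →
          tt h o p q a c * tt h o p q b d * ph h o p q a b 1 w * (tt h o p q a c' * tt h o p q b d' * ph h o p q a b 1 w') =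
          tt h o p q a (c + c') * tt h o p q b (d + d') * ph h o p q a b 1 (w + w') := fun c d w c' d' w' w1 w2 => by
        rw [tt_add h H o e0 T, tt_add h H o e0 T.symm, ph_add h H o e0 T w1.1 w1.2.1 w2.1 w2.2.1 w2.2.2]; ac_rfl
      have k0 : tt h o p q a 0 * tt h o p q b 0 * ph h o p q a b 1 0 = 1 :=
        eq_one_of (a := tt h o p q a 0 * tt h o p q b 0 * ph h o p q a b 1 0) (by rw [k] <;> simp)
      induction hg using closure_induction with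
      | mem g hg => obtain ⟨z, m, n, h1, h2, h3, h4, h5, rfl⟩ := hg; exact dd_form h H o e0 T h1 h2 h3 h4 h5
      | one => exact ⟨0, 0, 0, by simp, k0.symm⟩
      | mul _ _ _ _ h1 h2 =>
        obtain ⟨c, d, w, w1, rfl⟩ := h1
        obtain ⟨c', d', w', w2, rfl⟩ := h2
        exact ⟨_, _, _, by simp [w1, w2], k _ _ _ _ _ _ w1 w2⟩
      | inv _ _ h1 =>
        obtain ⟨c, d, w, w1, rfl⟩ := h1
        exact ⟨-c, -d, -w, by simp [w1], inv_eq_of_mul_eq_one_right (by rw [k _ _ _ _ _ _ w1 (by simp [w1])]; simpa using k0)⟩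
    obtain ⟨f, hf⟩ := H.nd.exists_isHyp e1 e0
    have e4 : π (tt h o p q a c * tt h o p q b d * ph h o p q a b 1 w : Ae π o) = 1 := Subtype.ext e3
    rw [coe_mul, coe_mul, map_mul, map_mul, map_tt h o T, map_tt h o T.symm, map_ph h o T w1.1 w1.2.1 w1.2.2,
      ← Or.ro_add ⟨e1, by simp [a1]⟩ ⟨e1, by simp [b1]⟩, ← Or.ro_add ⟨e1, by simp [a1, b1]⟩ ⟨e1, by simp [w1]⟩] at e4
    obtain ⟨t, e5⟩ : ∃ t : F, c • a + d • b + -((1 : F) • w) = t • e := ⟨_, Or.eq_of ⟨e1, by simp [a1, b1, w1]⟩ e4 hf.B_ef⟩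
    have e6 := congrArg (D.B a) e5
    have e7 := congrArg (D.B b) e5
    simp [w1, hab.B_ef, T.symm.hyp.B_ef, D.B_self_of_Q hab.Q_e, D.B_self_of_Q hab.Q_f, D.eq_zero_symm a1, D.eq_zero_symm b1] at e6 e7
    rw [e6, e7, zero_smul, zero_smul, one_smul, zero_add, zero_add, neg_eq_iff_eq_neg] at e5
    have o1 : Or D e a := ⟨e1, a1⟩
    rw [e6, e7, ph, e5, Q_neg, D.Q_smul_of_Q e1, mul_zero, tt_zero h H o e0 T, tt_zero h H o e0 T.symm,
      ← (Or.mk hab.Q_e (by simp [o1.ze])).ro_swap (D.Q_smul_of_Q e1 _), o1.ro_smul, dd_self h H o e0 (by simp [a1]) (by simp [b1])]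
    simp
  · rintro _ ⟨m, hm, rfl⟩
    have s : ∀ x, D.B e ((π g).1.1 x) = D.B e x := fun x => by nth_rewrite 1 [← show (π g).1.1 e = e from hg]; simp
    induction hm using closure_induction with
    | mem _ hm =>
      obtain ⟨z, m, n, h1, h2, h3, h4, h5, rfl⟩ := hm
      exact ⟨_, subset_closure ⟨_, _, _, ⟨e1, (s z).trans h1.B⟩, h2.act _, (s m).trans h3, (s n).trans h4, by simp [h5], rfl⟩,
        (conj_dd h o hg h1 h2 h3 h4).symm⟩
    | one => simp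
    | mul _ _ _ _ h1 h2 => rw [map_mul, ← conj_mul]; exact mul_mem h1 h2
    | inv _ _ h1 => rw [map_inv, ← conj_inv]; exact inv_mem h1

include h in
theorem pext_quad [Finite E] (p : ℕ) [Fact p.Prime] [CharP F p] (hs : π.ker ≤ commutator E) : PExt (D.E.subtype.comp π) p := by
  have h5 : 5 ≤ finrank F V := by have := H.rk; omega
  refine pext p H.nd (fun z hz => h.cent z (Subtype.ext hz)) (fun z hz => hs (Subtype.ext hz)) (fun e => cpl_quad h H) fun A hA hp hne => ?_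
  obtain ⟨v, hv, v0⟩ := exists_rad p H.nd hp hne
  by_cases v1 : D.Q v = 0
  · exact ⟨v, hv, v0, v1⟩
  have h2 : (2 : F) = 0 := by simpa [quad_B_self, v1] using hv.2 v hv.1
  obtain ⟨w, w1, w2, w3⟩ := exists_fixed_mod p hp (rho _) (A := F ∙ v) (B := D.perp (fixSp A)) (fun hl => hne ((eq_bot_iff_forall _).2
    fun g hg => by
      obtain ⟨k, rfl⟩ := hA hg
      have h1 := ((H.nd.mem_commutator_iff (good_of_finrank (by omega))).1 ((commutator_eq_E' H.nd h5).ge (π k).2)).1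
      have h3 : LinearMap.range (((π k).1.1 : V →ₗ[F] V) - 1) ≤ F ∙ v := by
        rintro _ ⟨x, rfl⟩; exact hl (sub_mem_perp_of_fix (U := fixSp A) (fun u hu => hu _ hg) x)
      have h4 := (Submodule.finrank_mono h3).trans_eq (finrank_span_singleton v0)
      rw [dickson_eq_one_iff] at h1
      have h6 := Submodule.finrank_eq_zero.1 (Nat.le_zero.1 (Nat.le_of_lt_succ (h4.lt_of_ne fun e => by simp [e] at h1)))
      exact isom_ext fun x => sub_eq_zero.1 (h6.le ⟨x, rfl⟩)))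
    (fun m x hx => by
      obtain ⟨c, rfl⟩ := Submodule.mem_span_singleton.1 hx
      exact Submodule.mem_span_singleton.2 ⟨c, by rw [map_smul]; exact congrArg _ (hv.1 _ m.2).symm⟩)
    fun m y hy => (D.stab_le_stab_perp _ (D.fix_le_stab (fixSp A) fun c hc => hc m.1 m.2) y).1 hy
  have w4 : D.B w v = 0 := D.eq_zero_symm (w1 v hv.1)
  obtain ⟨s, hs⟩ := isSquare_of_two_eq_zero h2 (D.Q w / D.Q v)
  refine ⟨w + s • v, add_mem ⟨fun m hm => ?_, w1⟩ (Submodule.smul_mem _ _ hv), fun e => w2 (Submodule.mem_span_singleton.2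
    ⟨-s, by rw [neg_smul, eq_comm, eq_neg_iff_add_eq_zero, e]⟩), ?_⟩
  · obtain ⟨t, ht⟩ := Submodule.mem_span_singleton.1 (w3 ⟨m, hm⟩)
    have e1 : m.1 w = w + t • v := by rw [ht]; exact (add_sub_cancel _ _).symm
    have := Q_isom m w
    rw [e1, quad_Q_add, quad_Q_smul] at this
    simp [w4, v1] at this
    simp [e1, this]
  · rw [quad_Q_add, quad_Q_smul, sq, ← hs, div_mul_cancel₀ _ v1, ← two_mul, h2]; simp [w4]

end Cfsg.Lib.Mult.Cl
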