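/-
Twisted groups of simply connected type: symmetries of root systems given by vectors, and the count of the torus.
-/
import Cfsg.Agent.Lib.Twist.MuE
import Cfsg.Agent.Lib.Twist.FixMore
import Cfsg.Agent.Lib.Linear.Euclid

set_option autoImplicit false

namespace Cfsg.Lib.Twist

open Subgroup Cfsg.Lib.Chev PreSys RootSys Cfsg.Lib.Linear Matrix

variable {I Φ J : Type*} [Fintype I] [DecidableEq I] [Fintype J]

theorem eu_rt (D : Eu I Φ J) (ν : (J → ℤ) →+ (J → ℤ)) {ρ : Equiv.Perm Φ} {π : Equiv.Perm I} (h1 : ∀ r, D.e (ρ r) = ν (D.e r))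
    (h2 : ∀ i, ρ (D.simple i) = D.simple (π i)) (r : Φ) (i : I) : D.R.rt (ρ r) (π i) = D.R.rt r i := by
  have : D.R.rt (ρ r) = D.R.rt r ∘ π.symm := D.L_inj (by
    rw [D.L_R_rt, h1, ← D.L_R_rt, D.L_apply, D.L_apply, map_sum, ← Equiv.sum_comp π fun i => (D.R.rt r ∘ π.symm) i • _]
    exact Finset.sum_congr rfl fun i _ => by rw [map_zsmul, ← h1, h2]; simp)
  simp [this]

/-- The symmetry of a root system induced by an isometry. -/
def euTw (D : Eu I Φ J) (ν : (J → ℤ) →+ (J → ℤ)) (hν : ∀ v w, ν v ⬝ᵥ ν w = v ⬝ᵥ w) (ρ : Equiv.Perm Φ) (π : Equiv.Perm I)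
    (h1 : ∀ r, D.e (ρ r) = ν (D.e r)) (h2 : ∀ i, ρ (D.simple i) = D.simple (π i)) : Tw D.R where
  ρ := ρ
  π := π
  ρ_simple := h2
  pos_ρ r := ⟨fun h i => (h (π i)).trans_eq (eu_rt D ν h1 h2 r i), fun h i => by
    obtain ⟨i, rfl⟩ := π.surjective i; exact (h i).trans_eq (eu_rt D ν h1 h2 r i).symm⟩
  ρ_s i r := D.e_inj (by
    have := D.N_mul (ρ (D.simple i)) (D.e (ρ r))
    rw [h1, h1, hν, hν, ← D.N_mul, mul_right_inj' (D.N_pos _).ne', ← h1] at this
    show D.e (ρ (D.refl _ _)) = D.e (D.refl _ _)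
    rw [h1, D.e_refl, D.e_refl, D.R_simple, D.R_simple, ← h2, this, map_sub, map_zsmul, h1, h1])
  coeff_zero r i := by rw [eu_rt D ν h1 h2]

variable {R : RootSys I Φ} {K : Type*} [Field K] {G : Type*} [Group G] {S : PreSys R K G} {T : Tw R} (X : TwSys S T)

theorem TwSys.exists_Tf {l : List I} (hl : l.Nodup) (hall : ∀ i, i ∈ l) (hC : ∀ c, S.hprod l c = 1 → c = 1) {g : G} (hg : g ∈ S.H ⊓ X.Fix) :
    ∃ c ∈ X.Tf, X.st.torus X.mult l c = g := by
  obtain ⟨c, rfl⟩ := (X.st.range_torus X.mult hl hall).ge hg.1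
  exact ⟨c, (injective_iff_map_eq_one _).2 hC ((X.σ_torus hl hall c).symm.trans hg.2), rfl⟩

theorem TwSys.Cov.ker_eq_bot {X : TwSys S T} [Finite Φ] [Finite K] {E : Type*} [Group E] [Finite E] {π : E →* G} {p : ℕ} [Fact p.Prime] [CharP K p]
    (C : X.Cov π p) (hC : S.SC) {φ : K →+* K} (h1 : ∀ i, X.φ (R.simple i) = φ) (h2 : ∀ t, φ (φ t) = t) (h3 : ∀ i, T.π (T.π i) = i)
    {s : Finset I} (h4 : ∀ i ∉ s, T.π i ∈ s) (h5 : ∀ i ∈ s, T.π i ∈ s → T.π i = i)
    (hn : ∀ j ∈ s, Nat.card (TwSys.Lh S T π p j ⊓ S.H.comap π : Subgroup E) ∣ Nat.card {t : K // T.π j = j → φ t = t} - 1) : π.ker = ⊥ := by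
  have h6 := C.card_dvd (s := s) (fun i => by
    by_cases e : i ∈ s
    exacts [⟨i, e, T.mem_orb i⟩, ⟨_, h4 i e, ⟨1, by simp [h3]⟩⟩]) hn
  obtain ⟨l, hl, hall, hC⟩ := hC
  have : Finite π.range := Finite.of_surjective _ π.rangeRestrict_surjective
  have : Finite (S.H ⊓ X.Fix : Subgroup G) := C.range ▸ Finite.of_injective _ (inclusion_injective inf_le_right)
  let A : s → Set K := fun j => {t | T.π j = j → φ t = t} \ {0}
  let c : (∀ j, A j) → I → Kˣ := fun a i => if h : i ∈ s then Units.mk0 (a ⟨i, h⟩) (a ⟨i, h⟩).2.2 else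
    Units.mk0 (φ (a ⟨_, h4 i h⟩)) ((map_ne_zero φ).2 (a _).2.2)
  have c1 : ∀ a, c a ∈ X.Tf := fun a => X.mem_Tf.2 fun i => by
    by_cases e : i ∈ s
    · by_cases e' : T.π i ∈ s
      · simp only [c, e, h1, h5 i e e', dif_pos]; exact ((a ⟨i, e⟩).2.1 (h5 i e e')).symm
      · simp only [c, e, e', dif_pos, dif_neg, not_false_iff, Units.val_mk0, h1]
        congr 3 <;> simp [h3]
    · simp only [c, e, h4 i e, h1, dif_pos, dif_neg, not_false_iff]; exact (h2 _).symm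
  have h7 := Nat.card_le_card_of_injective (fun a => (⟨_, hprod_mem_H l (c a), X.torus_fix hl hall (c1 a)⟩ : (S.H ⊓ X.Fix : Subgroup G)))
    fun a b e => funext fun j => Subtype.ext (by
      have := congrArg Units.val (congrFun ((injective_iff_map_eq_one (X.st.torus X.mult l)).2 hC (congrArg Subtype.val e)) j)
      simp only [c, j.2, dif_pos] at this; exact this)
  have h8 : ∀ j, Nat.card (A j) = Nat.card {t : K // T.π j = j → φ t = t} - 1 := fun j =>
    Set.ncard_sdiff_singleton_of_mem (s := {t | T.π j = j → φ t = t}) fun _ => map_zero φ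
  have h9 : Nat.card (∀ j, A j) ≠ 0 := (Nat.card_pos_iff.2 ⟨⟨fun j => ⟨1, fun _ => map_one φ, one_ne_zero⟩⟩, inferInstance⟩).ne'
  rw [Nat.card_pi, Finset.prod_congr rfl fun j _ => h8 j, Finset.prod_coe_sort s fun j => Nat.card {t : K // T.π j = j → φ t = t} - 1] at h7 h9
  have := (Nat.le_of_dvd (Nat.pos_of_ne_zero h9) h6).trans h7
  exact (card_le_one_iff_eq_bot _).1 (Nat.le_of_mul_le_mul_right (this.trans_eq (one_mul _).symm) Nat.card_pos)

end Cfsg.Lib.Twist
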