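/-
The spin group of plus type with a graph-field automorphism.
-/
import Cfsg.Agent.Lib.Mult.TwA
import Cfsg.Agent.Lib.Linear.MultBD
import Cfsg.Agent.Lib.CAut.DescP

set_option autoImplicit false

namespace Cfsg.Lib.Mult.TwD

open Subgroup Cfsg.Lib.Chev PreSys Cfsg.Lib.Linear Cfsg.Lib.Forms Cfsg.Lib.Forms.Form WtData Matrix Cfsg.Lib.Twist Cfsg.Lib.CAut Sem

universe u

variable (n : ℕ)

theorem ho (o : Fin (n + 2) ⊕ Fin (n + 2)) : (wtE (n + 2) False).inv o ≠ o := (wtE _ True).lg_ne trivial o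

/-- The base of type `D`. -/
noncomputable abbrev bD : (wtE (n + 2) False).Base (Fin (n + 2)) := (stdE (n + 1) False).baseD id (ho n)

/-- The symmetry of the weights. -/
def sw : Equiv.Perm (Fin (n + 2) ⊕ Fin (n + 2)) := Equiv.swap (.inl (Fin.last _)) (.inr (Fin.last _))

/-- The symmetry of the lattice. -/
def nu : (Fin (n + 2) → ℤ) →+ (Fin (n + 2) → ℤ) := AddMonoidHom.mk' (fun v k => if k = Fin.last _ then -v k else v k) fun v w => by
  ext k; simp only [Pi.add_apply]; split_ifs <;> ring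

variable {n}

theorem wt_sw (a : Fin (n + 2) ⊕ Fin (n + 2)) : (wtE (n + 2) False).wt (sw n a) = nu n ((wtE (n + 2) False).wt a) := by
  ext k
  rcases a with a | a <;> by_cases h : a = Fin.last _ <;> simp [sw, nu, wtE, Equiv.swap_apply_def, Pi.single_apply, h] <;> grind

theorem sw_inv (a : Fin (n + 2) ⊕ Fin (n + 2)) : sw n ((wtE (n + 2) False).inv a) = (wtE (n + 2) False).inv (sw n a) :=
  (wtE _ _).wt_inj (by rw [wt_sw, wt_inv, wt_inv, wt_sw, map_neg])

theorem val_sw {a b : Fin (n + 2) ⊕ Fin (n + 2)} (h : (wtE (n + 2) False).Val a b) : (wtE (n + 2) False).Val (sw n a) (sw n b) :=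
  ⟨ho n _, by rw [← sw_inv]; exact (sw n).injective.ne h.2.1, fun e => h.2.2 ((sw n).injective e)⟩

variable (n) in
/-- The symmetry of the roots. -/
def rho : Equiv.Perm (wtE (n + 2) False).Phi := Function.Involutive.toPerm (fun r => ⟨nu n r.1, by
  obtain ⟨a, b, h, rfl⟩ := exists_rt r
  exact ⟨_, _, val_sw h, by rw [wt_sw, wt_sw, ← map_add]; rfl⟩⟩) fun r => Subtype.ext (funext fun k => by simp only [nu, AddMonoidHom.mk'_apply]; grind)

theorem rho_rt {a b : Fin (n + 2) ⊕ Fin (n + 2)} (h : (wtE (n + 2) False).Val a b) : rho n (rt a b h) = rt _ _ (val_sw h) :=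
  Subtype.ext (by simp only [rt, wt_sw, ← map_add]; rfl)

theorem v1 (k : Fin (n + 1)) : (wtE (n + 2) False).Val (.inl k.castSucc) (.inr k.succ) :=
  (stdE (n + 1) False).val_sub (Fin.castSucc_lt_succ (i := k)).ne

theorem v2 : (wtE (n + 2) False).Val (.inl (Fin.last n).castSucc) (.inl (Fin.last _)) := (stdE (n + 1) False).val_add (Fin.castSucc_lt_last _).ne

theorem simple_cast (k : Fin (n + 1)) : (bD n).R.simple k.castSucc = rt _ _ (v1 k) := (stdE (n + 1) False).simp_cast _ k

theorem simple_last : (bD n).R.simple (Fin.last _) = rt _ _ v2 := (stdE (n + 1) False).simp_last _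

theorem sw_cast (k : Fin (n + 1)) : sw n (.inl k.castSucc) = .inl k.castSucc ∧ sw n (.inr k.castSucc) = .inr k.castSucc := by
  simp [sw, Equiv.swap_apply_def, (Fin.castSucc_lt_last k).ne]

variable (n) in
/-- The graph symmetry. -/
noncomputable def twD : Tw (bD n).R := euTw (bD n).eu (nu n) (fun v w => Finset.sum_congr rfl fun k _ => by
    simp only [nu, AddMonoidHom.mk'_apply]; split_ifs <;> ring) (rho n) (Equiv.swap (Fin.last n).castSucc (Fin.last _)) (fun _ => rfl) fun i => by
  change rho n ((bD n).R.simple i) = (bD n).R.simple _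
  induction i using Fin.lastCases with
  | last => rw [Equiv.swap_apply_right, simple_last, simple_cast, rho_rt]; exact rt_eq_iff.2 (Or.inl ⟨(sw_cast _).1, by simp [sw]⟩)
  | cast k =>
    induction k using Fin.lastCases with
    | last => rw [Equiv.swap_apply_left, simple_last, simple_cast, rho_rt]; exact rt_eq_iff.2 (Or.inl ⟨(sw_cast _).1, by simp [sw]⟩)
    | cast k =>
      rw [Equiv.swap_apply_of_ne_of_ne (by simp) (Fin.castSucc_lt_last _).ne, simple_cast, rho_rt]
      exact rt_eq_iff.2 (Or.inl ⟨(sw_cast _).1, (sw_cast k.succ).2⟩)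

variable {K : Type u} [Field K] (s : K ≃+* K) {c : K} (hc : c * c = 1)

variable (n c) in
/-- The semilinear isometry. -/
def aD : Gam (fPlus K (n + 2)) :=
  glin _ ((fPlus K _).refl (bv K (.inl (Fin.last _)) - c • bv K (.inr (Fin.last _)))) * ⟨pi _ s, _, isSim_pi_plus _ s⟩

theorem aD_s : (aD n s c).1.s = s := rfl

theorem isSim_aD : IsSim (fPlus K (n + 2)) (aD n s c).1 1 := by
  have := (isSim_lin ((fPlus K _).refl (bv K (.inl (Fin.last _)) - c • bv K (.inr (Fin.last _))))).mul (isSim_pi_plus (n + 2) s)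
  rwa [map_one, one_mul] at this

include hc

theorem map_sign : s c = c := by rcases mul_self_eq_one_iff.1 hc with rfl | rfl <;> simp

omit hc in
theorem Q_v : (fPlus K (n + 2)).Q (bv K (.inl (Fin.last _)) - c • bv K (.inr (Fin.last _))) = -c := (isHyp_fPlus _).Q_sub_smul c

theorem aD_bv (k : Fin (n + 2) ⊕ Fin (n + 2)) : (aD n s c).1.g (bv K k) = (if sw n k = k then 1 else c) • bv K (sw n k) := by
  have h1 : (pi _ s).g (bv K k) = bv K k := funext fun i => by simp [Pi.single_apply, apply_ite s]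
  have h2 : (-c)⁻¹ = -c := inv_eq_of_mul_eq_one_left (by simpa using hc)
  show ((fPlus K _).refl _).1 ((pi _ s).g _) = _
  rw [h1, refl_apply, Q_v, h2]
  rcases k with k | k <;> by_cases h : k = Fin.last _ <;>
    simp [sw, Equiv.swap_apply_def, fPlus_B_inl, fPlus_B_inr, h, smul_sub, smul_smul, hc, eq_comm]

theorem aD_sq (hs : ∀ t, s (s t) = t) : aD n s c ^ 2 = 1 := Subtype.ext (ext_g fun x => by
  rw [← Finset.univ_sum_single x, Subgroup.coe_pow, sq, mul_g, map_sum, map_sum]
  refine Finset.sum_congr rfl fun k _ => ?_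
  rw [show Pi.single k (x k) = x k • bv K k by simp [← Pi.single_smul]]
  simp only [Sem.smul, aD_bv s hc, aD_s, smul_smul, sw, Equiv.swap_apply_self, eq_comm (a := k)]
  split_ifs with h <;> simp [hs, h, map_sign s hc, mul_assoc, hc])

theorem cj_X {a b : Fin (n + 2) ⊕ Fin (n + 2)} (h : (wtE (n + 2) False).Val a b) (t : K) :
    cjI (aD n s c) (Frame.X (wtE (n + 2) False) (eichSelf (fPlus K (n + 2))) a b t) = Frame.X (wtE (n + 2) False) (eichSelf _) (sw n a) (sw n b)
      ((if sw n a = a then 1 else c) * (if sw n b = b then 1 else c) * s t) := by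
  have h1 := (frameD K (n + 2)).isEich h t
  have h2 := (frameD K (n + 2)).isEich (val_sw h) ((if sw n b = b then 1 else c) * s t)
  have h3 := (isSim_aD (n := n) s (c := c)).cjI_eich knat_quad rfl h1
  have h4 := (eichSelf _).smul (if sw n a = a then 1 else c) h2
  have e : b ≠ a := h.2.2
  refine ((congrArg _ ((eichSelf _).map h1)).trans h3).trans ((eich_congr _ _ _ (aD_bv s hc a) ?_ ?_).trans
    (((eichSelf _).map (h2.smul_left _)).symm.trans (h4.trans ?_)))
  · rw [Frame.zz, Frame.zz, if_neg e, if_neg ((sw n).injective.ne e), Sem.smul, aD_bv s hc, aD_s, smul_smul, smul_smul, inv_one, one_mul, mul_comm]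
  · simp [Frame.dd, e, ho]
  · simp [Frame.X, Frame.zz, Frame.dd, e, ho, smul_smul, mul_assoc]

omit hc in
theorem exists_eps : ∃ (c : K) (ε : (wtE (n + 2) False).Phi → K), c * c = 1 ∧ (∀ r, ε r * ε r = 1) ∧ (∀ r, ε ((bD n).R.neg r) = ε r) ∧
    (∀ i, ε ((bD n).R.simple i) = 1) ∧ ∀ r t, cjI (aD n s c) (((frameD K (n + 2)).sys (eichSelf _) (bD n)).x r t) =
      ((frameD K (n + 2)).sys (eichSelf _) (bD n)).x (rho n r) (ε r * s t) := by
  set T := frameD K (n + 2)
  set S := T.sys (eichSelf _) (bD n)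
  obtain ⟨θ, a1, a2, -⟩ := T.exists_x (eichSelf _) (bD n) (v1 (Fin.last n))
  obtain ⟨θ', b1, b2, -⟩ := T.exists_x (eichSelf _) (bD n) v2
  have hc : θ * θ' * (θ * θ') = 1 := by grind
  have k : ∀ r, ∃ ε : K, ε * ε = 1 ∧ (∀ t, cjI (aD n s (θ * θ')) (S.x r t) = S.x (rho n r) (ε * s t)) ∧
      ∀ t, cjI (aD n s (θ * θ')) (S.x ((bD n).R.neg r) t) = S.x (rho n ((bD n).R.neg r)) (ε * s t) := fun r => by
    obtain ⟨a, b, h, rfl⟩ := exists_rt r
    obtain ⟨x, c1, c2, c3, -⟩ := T.exists_x (eichSelf _) (bD n) h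
    obtain ⟨y, d1, d2, d3, -⟩ := T.exists_x (eichSelf _) (bD n) (val_sw h)
    refine ⟨y * x * ((if sw n a = a then 1 else θ * θ') * if sw n b = b then 1 else θ * θ'), by split_ifs <;> grind, fun t => ?_, fun t => ?_⟩
    · rw [c2, cj_X s hc h, rho_rt, d2, map_mul, map_sign s c1]; congr 1; grind
    · rw [show rho n ((bD n).R.neg _) = _ from (twD n).ρ_neg _, (bD n).neg_eq, c3, cj_X s hc h.inv, (bD n).neg_eq,
        show (twD n).ρ (rt a b h) = _ from rho_rt h, d3, sw_inv, sw_inv]
      simp only [(wtE _ _).inv_inj.eq_iff, T, frameD, map_mul, map_neg, map_one, map_sign s c1]; congr 1; grind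
  choose ε e1 e2 e3 using k
  have u : ∀ r x, (∀ t, cjI (aD n s (θ * θ')) (S.x r t) = S.x (rho n r) (x * s t)) → ε r = x := fun r x h => by
    simpa using (T.sep (eichSelf _) (bD n)).x_inj ((e2 r 1).symm.trans (h 1))
  refine ⟨_, ε, hc, e1, fun r => u _ _ (e3 r), fun i => u _ _ fun t => ?_, e2⟩
  rw [show rho n _ = _ from (twD n).ρ_simple i]
  change _ = S.x ((bD n).R.simple (Equiv.swap (Fin.last n).castSucc (Fin.last _) i)) _
  induction i using Fin.lastCases with
  | last =>
    rw [Equiv.swap_apply_right, simple_last, simple_cast, b2, a2, cj_X s hc v2, (sw_cast _).1, map_mul, map_sign s b1]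
    simp [sw]; congr 1; grind
  | cast k =>
    induction k using Fin.lastCases with
    | last =>
      rw [Equiv.swap_apply_left, simple_last, simple_cast, b2, a2, cj_X s hc (v1 _), (sw_cast _).1, map_mul, map_sign s a1]
      simp [sw]; congr 1; grind
    | cast k =>
      obtain ⟨x, c1, c2, -⟩ := T.exists_x (eichSelf _) (bD n) (v1 k.castSucc)
      rw [Equiv.swap_apply_of_ne_of_ne (by simp) (Fin.castSucc_lt_last _).ne, simple_cast, c2, c2, cj_X s hc (v1 _), (sw_cast _).1,
        Fin.succ_castSucc, (sw_cast _).2, map_mul, map_sign s c1]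
      simp

omit hc in
theorem exists_spin' {ι : Type} {J : Type*} [Fintype ι] [DecidableEq ι] [Fintype J] {W : WtData ι J} {D : Form (quadKind K) (ι → K)}
    (T : Frame W D) {I : Type*} [Fintype I] [DecidableEq I] (β : W.Base I) [Finite K] [Nonempty ι] (hD : D.Nondeg) (hn : 5 ≤ Fintype.card ι)
    (hC : (T.sys (spinSys D) β).SC) :
    ∃ (G : Type u) (_ : Group G) (_ : Finite G) (S : PreSys β.R K G) (τ : G →* commutator D.isom), S.St ∧ S.Sep ∧ S.Opp ∧ S.SC ∧
      S.U Set.univ = ⊤ ∧ Function.Surjective τ ∧ τ.ker ≤ center G ∧ ∀ r t, (τ (S.x r t)).1 = (T.sys (eichSelf _) β).x r t := by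
  have hr : 5 ≤ Module.finrank K (ι → K) := by simpa using hn
  have hE := (hD.commutator_eq_E (Form.good_of_card (Or.inr (by omega))) (by omega)).trans (T.map_U (spinSys D) β).symm
  have h0 : ∀ r t, (spinSys D).φ ((T.sys (spinSys D) β).x r t) = (T.sys (eichSelf D) β).x r t := fun r t =>
    have h := T.isEich ((T.exists_sel β).choose_spec.choose_spec r).1.choose ((T.exists_sel β).choose_spec.choose r * t)
    ((spinSys D).map h).trans ((eichSelf D).map h).symm
  have hS := T.st (spinSys D) β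
  have hF := T.sep (spinSys D) β
  have hO := T.opp (spinSys D) β
  generalize T.sys (spinSys D) β = S at *
  generalize (spinSys D).φ = φ at *
  have m : ∀ r t, S.x r t ∈ S.U Set.univ := fun r t => S.x_mem_U (Set.mem_univ r) t
  have hS' : (S.restrict _ m).St := hS.restrict _ _ m
  have hC' : (S.restrict _ m).SC := hC.comap (S.restrict_x _ m)
  have hg := S.restrict_univ rfl m
  have hm : ∀ g : S.U Set.univ, φ g ∈ commutator D.isom := fun g => hE.ge ⟨g, g.2, rfl⟩
  let τ : S.U Set.univ →* commutator D.isom := (φ.comp (Subgroup.subtype _)).codRestrict _ hm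
  have h2 : ∀ g, τ g = 1 → g ∈ (S.restrict _ m).H ∧ g ∈ Subgroup.center _ := fun g hg' => by
    have := hS'.ker_le (T.sep (eichSelf D) β) (T.opp (eichSelf D) β) (π := (commutator D.isom).subtype.comp τ) h0
      (hg ▸ Subgroup.mem_top g) (by rw [MonoidHom.comp_apply, hg', map_one])
    exact ⟨this.1, mem_center_of_comm hg this.2⟩
  have : Finite D.isom := Finite.of_injective (fun g => (g.1 : (ι → K) → ι → K)) fun _ _ e => Form.isom_ext (congrFun e)
  refine ⟨_, _, ?_, _, τ, hS', hF.restrict _ m, hO.restrict hF _ m, hC', hg, fun g => ?_, fun g hg => (h2 g hg).2, h0⟩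
  · obtain ⟨l, a, b, -⟩ := hC'
    have : Finite (S.restrict _ m).H :=
      hS'.range_torus hS'.mult_of_finite a b ▸ Finite.of_surjective _ (MonoidHom.rangeRestrict_surjective _)
    have : Finite τ.ker := Finite.of_injective _ (Subgroup.inclusion_injective fun g hg => (h2 g hg).1)
    exact τ.finite_iff_finite_ker_range.2 ⟨this, inferInstance⟩
  · obtain ⟨k, hk, e⟩ := hE.le g.2
    exact ⟨⟨k, hk⟩, Subtype.ext e⟩

omit hc in
theorem exists_spin [Finite K] (hn : 2 ≤ n) (h2 : Nat.card K ≠ 2) :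
    ∃ (G : Type u) (_ : Group G) (_ : Finite G) (S : PreSys (bD n).R K G) (τ : G →* commutator (fPlus K (n + 2)).isom), S.St ∧ S.Sep ∧ S.Opp ∧ S.SC ∧
      S.U Set.univ = ⊤ ∧ Function.Surjective τ ∧ τ.ker ≤ center G ∧ commutator G = ⊤ ∧ CClosed.{u, u} G ∧
      ∀ r t, (τ (S.x r t)).1 = ((frameD K (n + 2)).sys (eichSelf _) (bD n)).x r t := by
  have hl : ¬ (wtE (n + 2) False).lg := id
  set P := stdE (n + 1) False
  set T := frameD K (n + 2)
  have hS := T.st (spinSys _) (P.baseD hl (ho n))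
  obtain ⟨G, _, _, S, τ, a1, a2, a3, a4, a5, a6, a7, a8⟩ := exists_spin' T (P.baseD hl (ho n)) (fPlus_nondeg _) (by simp; omega)
    ⟨Finset.univ.toList, Finset.nodup_toList _, by simp, fun c hc => by
      obtain ⟨e1, e2⟩ := P.D_tor hl (ho n) fun v => T.torChar_zero (spinSys _) _ (by rw [hc, map_one]) (P.mem_closure v)
      rw [e1, hS.hprod_mul hS.mult_of_finite, hprod_single, hprod_single] at hc
      rcases unit_cases e2 with e | ⟨h2, e⟩
      · rw [e1, e]; simp
      · have := hS.mult_of_finite ((P.baseD hl (ho n)).R.simple (Fin.last _)) (-1) (-1) (by simp) (by simp)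
        rw [neg_mul_neg, one_mul, h_one, ← hc, e, mul_left_inj, show (P.baseD hl (ho n)).R.simple _ = _ from P.simp_cast _ _,
          show (P.baseD hl (ho n)).R.simple _ = _ from P.simp_last _] at this
        exact absurd this (T.h_ne_h _ hl _ _ (ho n _) h2)⟩
  have hW : (wtE (n + 2) False).Big 3 := P.big.mono (by omega)
  have hN := (P.baseD hl (ho n)).nb (Or.inl (hW.mono (by omega)))
  exact ⟨G, _, ‹_›, S, τ, a1, a2, a3, a4, a5, a6, a7, perfect_of_sl a1 a2 a5 ((P.baseD hl (ho n)).sl hl (ho n)) hN,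
    cclosed_of_lifts a1 a2 a3 a4 a5 hN fun _ _ _ hπ => (P.baseD hl (ho n)).lifts_D a1 a2 hπ hl (ho n) hW fun e => absurd e h2, a8⟩

end Cfsg.Lib.Mult.TwD
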