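/-
The Schur multiplier of the orthogonal groups of minus type.
-/
import Cfsg.Agent.Lib.Mult.TwD
import Cfsg.Agent.Lib.Mult.ClP
import Cfsg.Agent.Lib.Known.FExt

set_option autoImplicit false

namespace Cfsg.Lib.Mult.TwD

open Subgroup Cfsg.Lib.Chev PreSys RootSys Cfsg.Lib.Linear Cfsg.Lib.Forms Cfsg.Lib.Forms.Form WtData Cfsg.Lib.Twist Cfsg.Lib.CAut Sem Module

universe u

section
variable {G A B : Type*} [Group G] [Group A] [Group B] {p : ℕ} {τ : G →* A}

theorem uniq (h : PExt τ p) {g g' : G} (e : τ g = τ g') {k l : ℕ} (h1 : g ^ p ^ k = 1) (h2 : g' ^ p ^ l = 1) : g = g' := by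
  have c : Commute (g * g'⁻¹) g' := h.cen _ (by simp [e]) _
  refine mul_inv_eq_one.1 (h.cop _ (by simp [e]) (k + l) ?_)
  have := c.mul_pow (p ^ (k + l))
  rw [inv_mul_cancel_right, pow_add, pow_mul, h1, one_pow, mul_comm (p ^ k), pow_mul g', h2, one_pow, mul_one] at this
  rw [pow_add, mul_comm, ← this]

theorem cm (φ : A →* B) (g : commutator A) : φ g ∈ commutator B :=
  (map_commutator_eq _ φ ▸ commutator_mono le_top le_top : (commutator _).map φ ≤ _) ⟨g, g.2, rfl⟩

theorem comap_center (h : commutator G = ⊤) (hs : Function.Surjective τ) (hc : τ.ker ≤ center G) : (center A).comap τ = center G :=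
  le_antisymm (fun g hg => comp_ker_le_center ⟨h⟩ hc (QuotientGroup.ker_mk' (center _)).le ((QuotientGroup.eq_one_iff (τ g)).2 hg))
    fun g hg => mem_center_iff.2 fun k => by
      obtain ⟨k, rfl⟩ := hs k
      rw [← map_mul, ← map_mul, mem_center_iff.1 hg]

theorem card_comap (hs : Function.Surjective τ) (Y : Subgroup A) : Nat.card (Y.comap τ) = Nat.card τ.ker * Nat.card Y := by
  rw [← card_inf_ker_mul τ, inf_eq_left.2 (ker_le_comap _ _), map_comap_eq_self_of_surjective hs]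

theorem descend [Finite G] [Fact p.Prime] (h : PExt τ p) (hs : Function.Surjective τ) {α : A →* A} {σ : G →* G} (e : τ.comp σ = α.comp τ)
    {ι : B →* A} (hι : Function.Injective ι) (h1 : ∀ b, α (ι b) = ι b) {U V : Subgroup G} (hU : IsPGroup p U) (hV : IsPGroup p V)
    (h2 : σ.eqLocus (MonoidHom.id G) ≤ U ⊓ σ.eqLocus (MonoidHom.id G) ⊔ V ⊓ σ.eqLocus (MonoidHom.id G))
    (h3 : ∀ a k, a ^ p ^ k = 1 → α a = a → a ∈ ι.range) (h4 : ∀ Y : Subgroup B, (∀ b k, b ^ p ^ k = 1 → b ∈ Y) → Y = ⊤) (h5 : commutator B = ⊤) :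
    ∃ r : σ.eqLocus (MonoidHom.id G) →* B, Function.Surjective r ∧ (∀ g, ι (r g) = τ g) ∧ commutator (σ.eqLocus (MonoidHom.id G)) = ⊤ := by
  have ind : ∀ Y : Subgroup G, (∀ g k, g ^ p ^ k = 1 → σ g = g → g ∈ Y) → σ.eqLocus (MonoidHom.id G) ≤ Y := fun Y hY => h2.trans (sup_le
    (fun g hg => let ⟨k, hk⟩ := hU ⟨g, hg.1⟩; hY g k (congrArg Subtype.val hk) hg.2)
    fun g hg => let ⟨k, hk⟩ := hV ⟨g, hg.1⟩; hY g k (congrArg Subtype.val hk) hg.2)
  have m := ind (ι.range.comap τ) fun g k a b => h3 _ k (by rw [← map_pow, a, map_one]) ((DFunLike.congr_fun e g).symm.trans (congrArg τ b))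
  let r := (MonoidHom.ofInjective hι).symm.toMonoidHom.comp ((τ.comp (Subgroup.subtype _)).codRestrict _ fun g => m g.2)
  have r1 : ∀ g, ι (r g) = τ g := fun g => MonoidHom.apply_ofInjective_symm hι _
  have r2 : Function.Surjective r := MonoidHom.range_eq_top.1 (h4 _ fun b k hb => by
    have hp : IsPGroup p (zpowers (ι b)) := fun ⟨_, j, rfl⟩ => ⟨k, Subtype.ext (by
      show (ι b ^ j) ^ p ^ k = 1
      rw [← zpow_natCast, ← zpow_mul, mul_comm, zpow_mul, zpow_natCast, ← map_pow, hb, map_one, one_zpow])⟩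
    obtain ⟨g, g1, g2⟩ := h.exists_lift hp (mem_zpowers _) (hs _)
    obtain ⟨-, l, hl⟩ := (h.mem_pl hp).1 g1
    exact ⟨⟨g, uniq h ((DFunLike.congr_fun e g).trans (by simp [g2, h1])) (by rw [← map_pow, hl, map_one]) hl⟩, hι ((r1 _).trans g2)⟩)
  refine ⟨r, r2, r1, eq_top_iff.2 fun g _ => ?_⟩
  obtain ⟨g', a, b⟩ := ind ((commutator (σ.eqLocus (MonoidHom.id G))).map (Subgroup.subtype _)) (fun g k a b => by
    have : (commutator _).map r = ⊤ := by rw [map_commutator_eq, MonoidHom.range_eq_top.2 r2, ← commutator_def, h5]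
    obtain ⟨c, c1, c2⟩ := this.ge (mem_top (r ⟨g, b⟩))
    have c3 : τ (g * c.1⁻¹) = 1 := by rw [map_mul, map_inv, ← r1, c2, r1, mul_inv_cancel]
    have c4 : (p ^ k).Coprime (orderOf (g * c.1⁻¹)) := ((Fact.out : p.Prime).coprime_iff_not_dvd.2 fun ⟨j, hj⟩ => by
      have h0 := orderOf_pos (g * c.1⁻¹)
      have := orderOf_dvd_of_pow_eq_one (h.cop ((g * c.1⁻¹) ^ j) (by rw [map_pow, c3, one_pow]) 1 (by
        rw [pow_one, ← pow_mul, mul_comm j, ← hj, pow_orderOf_eq_one]))
      have := Nat.le_of_dvd (Nat.pos_of_ne_zero (by rintro rfl; omega)) this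
      have := (Fact.out : p.Prime).two_le
      nlinarith).pow_left k
    have c5 : Commute (g * c.1⁻¹) c := h.cen _ c3 _
    have c6 := c5.mul_pow (p ^ k)
    obtain ⟨j, hj⟩ := exists_pow_eq_self_of_coprime c4
    rw [inv_mul_cancel_right, a, eq_comm, mul_eq_one_iff_eq_inv] at c6
    rw [c6, mul_inv_eq_iff_eq_mul.symm, eq_comm, eq_mul_inv_iff_mul_eq, mul_inv_eq_iff_eq_mul] at hj
    exact ⟨_, mul_mem (pow_mem (inv_mem (pow_mem c1 (p ^ k))) j) c1, by simp [hj]⟩) g.2
  exact Subtype.ext b ▸ a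

end

theorem orth_gen {I Φ : Type*} [Fintype I] [DecidableEq I] {R : RootSys I Φ} {K : Type*} [Field K] {G : Type*} [Group G] {S : PreSys R K G}
    {T : Tw R} (X : TwSys S T) [Finite Φ] (hC : S.SC) {L : I → List I} (hL : ∀ i, X.Orth (L i)) (hJ : ∀ i j, j ∈ T.orb i ↔ j ∈ L i) :
    X.Grp X.Fix ∧ X.Fix ≤ S.U {r | R.Pos r} ⊓ X.Fix ⊔ S.U {r | ¬ R.Pos r} ⊓ X.Fix := by
  have h : X.Grp (S.U {r | R.Pos r} ⊓ X.Fix ⊔ S.U {r | ¬ R.Pos r} ⊓ X.Fix) := ⟨sup_le inf_le_right inf_le_right,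
    fun i => le_sup_of_le_left (inf_le_inf_right _ (S.U_mono fun _ h => h.1)), fun i => ⟨_, mem_sup_right ⟨S.U_mono (fun _ h => h.1)
      ((hL i).neg_mem (hJ i)), (hL i).zl_fix (Or.inr rfl) (by simp)⟩, (hL i).neg_mem (hJ i), (hL i).neg_ne_one ((hJ i i).1 (T.mem_orb i))⟩⟩
  obtain ⟨l, hl, hall, hC⟩ := hC
  refine ⟨h.fix, (h.eq_Fix fun g hg => ?_).ge⟩
  obtain ⟨c, hc, rfl⟩ := X.exists_Tf hl hall hC hg
  suffices ∀ s : Finset I, ∀ c ∈ X.Tf, (∀ i ∉ s, c i = 1) → X.st.torus X.mult l c ∈ _ from this Finset.univ c hc (by simp)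
  intro s
  induction s using Finset.strongInduction with
  | H s ih =>
    intro c hc h1
    rcases s.eq_empty_or_nonempty with rfl | ⟨i, hi⟩
    · rw [show c = 1 from funext fun i => h1 i (by simp), map_one]; exact one_mem _
    have e : ((L i).map fun j => Pi.mulSingle j (c j)).prod = fun j => if j ∈ L i then c j else 1 := by
      rw [← List.prod_toFinset _ (hL i).nodup]; ext j; simp [Finset.prod_apply, Pi.mulSingle_apply]
    rw [show c = ((L i).map fun j => Pi.mulSingle j (c j)).prod * fun j => if j ∈ L i then 1 else c j by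
      rw [e]; ext j; simp only [Pi.mul_apply]; split_ifs <;> simp, map_mul, map_list_prod, List.map_map]
    refine mul_mem ?_ (ih (s.erase i) (Finset.erase_ssubset hi) _ (X.mem_Tf.2 fun j => ?_) fun j hj => ?_)
    · simp only [Function.comp_def, torus_single X.st X.mult hl hall]
      exact (hL i).hprod_mem h fun j _ => X.mem_Tf.1 hc j
    · simp only [(hL i).stab]; split_ifs
      exacts [(map_one _).symm, X.mem_Tf.1 hc j]
    · split_ifs with e
      exacts [rfl, h1 j fun a => hj (Finset.mem_erase.2 ⟨fun b => e (b ▸ (hJ i i).1 (T.mem_orb i)), a⟩)]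

variable {n : ℕ} {K : Type u} [Field K] [Finite K]

theorem A_zero : (bD n).R.A (Fin.last n).castSucc (Fin.last _) = 0 ∧ (bD n).R.A (Fin.last _) (Fin.last n).castSucc = 0 := by
  have h1 := (stdE (n + 1) False).D_last id (ho n)
  have h2 := (stdE (n + 1) False).D_e id (ho n)
  have h3 : (bD n).eu.f ((bD n).eu.simple (Fin.last n).castSucc) = _ := (stdE (n + 1) False).f_cast _ _
  simp only [Eu.R_A, h2, h1, h3]
  simp [(Fin.castSucc_lt_last _).ne, (Fin.castSucc_lt_last _).ne']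

theorem tw_main {G : Type u} [Group G] {S : PreSys (bD n).R K G} (X : TwSys S (twD n)) (hC : S.SC) {φ : K →+* K} (h1 : ∀ r, X.φ r = φ)
    (h2 : ∀ t, φ (φ t) = t) (h3 : ∀ i, X.ε ((bD n).R.simple i) = 1) :
    (X.Fix ≤ S.U {r | (bD n).R.Pos r} ⊓ X.Fix ⊔ S.U {r | ¬ (bD n).R.Pos r} ⊓ X.Fix) ∧ ∀ (p : ℕ) [Fact p.Prime] [CharP K p] (E : Type u) [Group E]
      [Finite E] (σ : E →* X.Fix), IsStemExtension σ → PExt (X.Fix.subtype.comp σ) p → σ.ker = ⊥ := by
  set a := (Fin.last n).castSucc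
  set b := Fin.last (n + 1)
  have ab : a ≠ b := (Fin.castSucc_lt_last _).ne
  have e : (twD n).π = Equiv.swap a b := rfl
  have o1 : ∀ i, i ≠ a → i ≠ b → X.Orth [i] ∧ ∀ j, j ∈ (twD n).orb i ↔ j ∈ [i] := fun i c d =>
    ⟨⟨by simp, fun j => by simp only [e, List.mem_singleton, Equiv.swap_apply_def]; grind, by simp, fun j _ => h3 j⟩, fun j => by
      simp [Tw.orb, e, Equiv.Perm.SameCycle, Equiv.Perm.zpow_apply_eq_self_of_apply_eq_self (Equiv.swap_apply_of_ne_of_ne c d), eq_comm]⟩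
  have o2 : X.Orth [a, b] := ⟨by simp [ab], fun j => by simp only [e, List.mem_cons, Equiv.swap_apply_def]; grind,
    by simp +contextual [a, b, A_zero], fun j _ => h3 j⟩
  have o3 : ∀ j, j ∈ (twD n).orb a ↔ j ∈ [a, b] := fun j => ⟨fun h => by_contra fun c => by
    simp only [List.mem_cons, List.not_mem_nil, or_false, not_or] at c
    simpa [Ne.symm c.1] using ((o1 j c.1 c.2).2 a).1 (Equiv.Perm.SameCycle.symm h), fun h => by
    rcases List.mem_pair.1 h with rfl | rfl
    exacts [Tw.mem_orb _ _, ⟨1, by simp [e]⟩]⟩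
  have o4 : (twD n).orb a = (twD n).orb b := ((twD n).orb_eq ((o3 b).2 (by simp))).symm
  obtain ⟨g1, g2⟩ := orth_gen X hC (L := fun i => if i = a ∨ i = b then [a, b] else [i]) (fun i => by
    split_ifs with c
    exacts [o2, (o1 i (not_or.1 c).1 (not_or.1 c).2).1]) fun i => by
    split_ifs with c
    · rcases c with rfl | rfl
      exacts [o3, o4 ▸ o3]
    · exact (o1 i (not_or.1 c).1 (not_or.1 c).2).2
  refine ⟨g2, fun p _ _ E _ _ σ hσ hp => ?_⟩
  obtain ⟨c1, c2⟩ := TwSys.cen_of_stem hσ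
  have C : X.Cov (X.Fix.subtype.comp σ) p := ⟨hp, c1.range, g1, g2, c2 ▸ hσ.2.2⟩
  refine c2 ▸ C.ker_eq_bot hC (fun _ => h1 _) h2 (by simp [e]) (s := Finset.univ.erase b) (by simp [e, ab])
    (by simp only [e, Finset.mem_erase, Equiv.swap_apply_def]; grind) fun j hj => ?_
  by_cases c : j = a
  · simpa [c, e, ab.symm] using C.card₂ o2 (by simp [e]) (by simp [e]) o3 (by simp [h1, h2])
  · have d := (Finset.mem_erase.1 hj).1
    simpa [e, Equiv.swap_apply_of_ne_of_ne c d, h1] using C.card₁ (o1 j c d).1 (o1 j c d).2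

set_option maxHeartbeats 800000 in
theorem exists_cover (hn : 2 ≤ n) {F V : Type*} [Field F] [Finite F] [AddCommGroup V] [Module F V] [FiniteDimensional F V]
    {D : Form (quadKind F) V} (hD : D.Nondeg) (hV : finrank F V = 2 * (n + 2)) (hT : ¬ D.HasTS (n + 2)) (hK : Nat.card K = Nat.card F ^ 2) :
    ∃ (G : Type u) (_ : Group G) (_ : Finite G) (τ : G →* commutator (fPlus K (n + 2)).isom) (Γ : Subgroup G) (r : Γ →* commutator D.isom),
      Nonempty (cartanKer (bD n).R.A Kˣ ≃* center G) ∧ Function.Surjective τ ∧ τ.ker.comap Γ.subtype = r.ker ∧ (Nat.card τ.ker ≤ 2 → τ.ker ≤ Γ) ∧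
      (center _).comap τ = center G ∧ Function.Surjective r ∧ (center _).comap r ≤ (center G).comap Γ.subtype ∧ commutator Γ = ⊤ ∧
      HasCyclicSchurMultiplier Γ 1 := by
  have hc := isConj_frob hK
  let s : K ≃+* K := RingEquiv.ofBijective (frob hK) (Function.Involutive.bijective hc.σσ)
  have hs : orderOf s = 2 := orderOf_eq_prime (RingEquiv.ext hc.σσ) fun e => hc.ne_id (RingHom.ext (RingEquiv.congr_fun e))
  obtain ⟨f, hf⟩ := exists_fix (F₀ := F) (s := s) (by rw [hs, hK])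
  obtain ⟨p, _⟩ := CharP.exists F
  have := Fact.mk (CharP.char_is_prime F p)
  have : CharP K p := charP_of_injective_ringHom f.injective p
  obtain ⟨G, _, _, S, τ, a1, a2, a3, a4, a5, a6, a7, a8, a9, a10⟩ := exists_spin (K := K) hn (by have := hc.two_le; nlinarith)
  obtain ⟨c, ε, c1, e1, e2, e3, e4⟩ := exists_eps (n := n) s
  have hn' := five_le_plus (F := K) (m := n + 2) (by omega)
  have hP := fPlus_nondeg (F := K) (n + 2)
  have := (std_quad hP hn').nontrivial
  obtain ⟨T, hT'⟩ := exists_isGT hP (finrank_plus _)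
  obtain ⟨τ', hτ⟩ := exists_isTau hP hn' (finrank_plus _)
  have h4 : T (aD n s c) = -1 := by
    rw [aD, map_mul, hT'.pi_plus, mul_one]
    exact (hT'.tau hn' hτ (finrank_plus _) (fPlus_hasTS _) (glinK _ _)).trans ((hτ.glinK _).trans (dickson_refl _ (by
      rw [Q_v]; exact neg_ne_zero.2 (left_ne_zero_of_mul_eq_one c1))))
  obtain ⟨j, μ, L, hj⟩ := exists_lift_even (D₀ := D) (a := aD n s c) hP hT' (finrank_plus _) hf (by rw [aD_s, hs, aD_sq s c1 hc.σσ]) hD hV
    (iff_of_false hT fun h => absurd (h4.symm.trans h.2) (by decide))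
  let α : commutator (fPlus K (n + 2)).isom →* commutator (fPlus K (n + 2)).isom :=
    ((cjI (aD n s c)).toMonoidHom.comp (Subgroup.subtype _)).codRestrict _ fun g => cm (cjI (aD n s c)).toMonoidHom g
  let ι : commutator D.isom →* commutator (fPlus K (n + 2)).isom := (L.isomHom.comp (Subgroup.subtype _)).codRestrict _ fun g => cm L.isomHom g
  have i0 : Function.Injective L.isomHom := fun g g' e => isom_ext fun x => L.ext.injective (by rw [← L.isomHom_apply, e, L.isomHom_apply])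
  have i1 : Function.Injective ι := fun g g' e => Subtype.ext (i0 (congrArg Subtype.val e))
  obtain ⟨e⟩ := a1.center_equiv a2 a3 a1.mult_of_finite a4 a5
  have hτ : PExt τ p := ⟨fun z hz g => (mem_center_iff.1 (a7 hz) g).symm, fun z hz k h => by
    obtain ⟨y, hy⟩ := e.surjective ⟨z, a7 hz⟩
    have h1 : y ^ (Nat.card K - 1) = 1 := Subtype.ext (funext fun i => by rw [← Nat.card_units]; exact pow_card_eq_one')
    have h2 : z ^ (Nat.card K - 1) = 1 := by simpa [hy] using congrArg (fun y => (e y).1) h1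
    have := Fintype.ofFinite K
    obtain ⟨m, -, hm⟩ := FiniteField.card K p
    have h3 : (p ^ k).Coprime (Nat.card K - 1) := by
      rw [Nat.card_eq_fintype_card, hm]
      exact ((Nat.coprime_pow_left_iff m.pos _ _).1 ((Nat.coprime_self_sub_right (Nat.one_le_pow _ _ (Fact.out : p.Prime).pos)).2
        (by simp))).pow_left k
    have := pow_gcd_eq_one.2 ⟨h, h2⟩
    rwa [h3, pow_one] at this⟩
  obtain ⟨σ, hσ⟩ := a9.exists_lift (CExt.of_ker_le a6 a7) (α.comp τ)
  have xp : ∀ r t, S.x r t ^ p ^ 1 = 1 := fun r t => by rw [pow_one, ← S.x_nsmul, CharP.cast_eq_zero, zero_mul, S.x_zero]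
  have σx : ∀ r t, σ (S.x r t) = S.x (rho n r) (ε r * s t) := fun r t => uniq hτ ((DFunLike.congr_fun hσ _).trans (Subtype.ext
    (((congrArg _ (a10 r t)).trans (e4 r t)).trans (a10 _ _).symm))) (by rw [← map_pow, xp, map_one]) (xp _ _)
  let X : TwSys S (twD n) := ⟨σ, ε, fun _ => s, e1, e2, fun _ => rfl, σx, a1, a2, a3, a1.mult_of_finite, a5⟩
  obtain ⟨g1, g2⟩ := tw_main X a4 (fun _ => rfl) hc.σσ e3
  have h5 : 5 ≤ finrank F V := by omega
  have hG := good_of_finrank (D := D) (by omega)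
  obtain ⟨r, r1, r2, r3⟩ := descend hτ a6 hσ i1 (fun g => Subtype.ext (isom_ext fun x => by
      obtain ⟨x, rfl⟩ := (aD n s c).1.g.surjective x
      exact (cjI_apply_g _ _ _).trans (congrArg (fun b => b.g x) (L.ext.commute_hom hj g.1.1)).symm))
    (isPGroup_U p a2 nil_pos) (isPGroup_U p a2 nil_neg) g1 (fun g k h1 h2 => by
      obtain ⟨g0, h3⟩ := L.ext.exists_hom_eq hf hj (g := g.1.1) (ext_g fun x =>
        (congrArg (fun k : commutator _ => k.1.1 ((aD n s c).1.g x)) h2).symm.trans (cjI_apply_g _ _ _))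
      have h6 : g0 ∈ D.isom := mem_isom_quad.2 fun x => f.injective (by rw [L.Q, L.Q, ← L.ext.hom_apply, h3, Q_isom])
      have h7 : L.isomHom ⟨g0, h6⟩ = g := Subtype.ext h3
      have h8 : (⟨g0, h6⟩ : D.isom) ^ p ^ k = 1 := i0 (by rw [map_pow, h7, map_one]; exact congrArg Subtype.val h1)
      refine ⟨⟨⟨g0, h6⟩, (hD.mem_commutator_iff hG).2 ⟨?_, ?_⟩⟩, Subtype.ext h7⟩
      · rw [← L.dickson_isomHom hP hn', h7]; exact Abelianization.commutator_subset_ker _ g.2
      by_cases h2 : (2 : F) = 0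
      · exact spinor_of_two_eq_zero _ h2 _
      have := congrArg (spinor hD) h8
      rwa [map_pow, Int.units_pow_eq_pow_mod_two, Nat.odd_iff.1 (((Fact.out : p.Prime).odd_of_ne_two (by
        rintro rfl; exact h2 (CharP.cast_eq_zero F 2))).pow), pow_one, map_one] at this)
    (fun Y hY => eq_top_iff.2 fun g _ => by
      obtain ⟨g', a, b⟩ := E_le (G := Y.map (Subgroup.subtype _)) (fun e z d h => by
        obtain ⟨k, hk⟩ := isPGroup_eichAt p h.Q_e ⟨_, eich_mem_eichAt h⟩
        exact ⟨⟨_, hD.eich_mem_commutator hG _ _ _ h⟩, hY _ k (Subtype.ext (congrArg (fun g : D.eichAt e => g.1) hk)), rfl⟩) ((commutator_eq_E' hD h5).le g.2)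
      exact Subtype.ext b ▸ a) (hD.commutator_commutator_eq_top h5)
  have z1 := comap_center a8 a6 a7
  have z2 : τ.ker.comap X.Fix.subtype = r.ker := Subgroup.ext fun g =>
    (Iff.of_eq (congrArg (· = 1) (r2 g).symm)).trans (map_eq_one_iff _ i1)
  refine ⟨G, _, ‹_›, τ, X.Fix, r, ⟨e⟩, a6, z2, fun h z hz => ?_, z1, r1, fun g hg => z1.le ?_, r3,
    mult_cyclic_of stem_id (by rw [MonoidHom.ker_id, card_bot]) fun E _ _ π hπ => ⟨1, one_mem _, one_pow _, (g2 p E π hπ ?_).le.trans bot_le⟩⟩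
  · have h1 : Function.Injective σ := Finite.injective_iff_surjective.2 (MonoidHom.range_eq_top.1 (eq_top_iff.2 (a5 ▸ S.U_le_iff.2 fun r _ t =>
      ⟨S.x ((rho n).symm r) (s (ε ((rho n).symm r) * t)), by rw [σx, show s (s _) = _ from hc.σσ _, ← mul_assoc, e1, one_mul]; simp⟩)))
    have h2 : σ z ∈ τ.ker := (DFunLike.congr_fun hσ z).trans (by rw [MonoidHom.comp_apply, hz, map_one])
    by_contra h3
    have h6 : z ≠ 1 := fun e => h3 (e ▸ one_mem _)
    have := Fintype.ofFinite τ.ker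
    exact absurd (Nat.card_eq_fintype_card (α := τ.ker) ▸ h) (Fintype.two_lt_card_iff.2 ⟨1, ⟨z, hz⟩, ⟨_, h2⟩, fun e => h6 (Subtype.ext_iff.1 e).symm,
      fun e => h6 ((map_eq_one_iff σ h1).1 (Subtype.ext_iff.1 e).symm), fun e => h3 (show σ z = z from (congrArg Subtype.val e).symm)⟩).not_ge
  · obtain ⟨_, _, h⟩ := Quad.exists_isHyp hD (by omega)
    obtain ⟨c, hc⟩ := L.ext.hom_eq_smul_iff.2 ((h.mem_center_iff hD (Or.inr (by omega)) (hD.eich_mem_commutator hG) _).1 hg)
    exact mem_center_iff.2 fun k => Subtype.ext (mul_comm_of_smul (c := c) (fun x => r2 g ▸ hc x) k.1)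
  · have hE := perfect_of_stem hπ ⟨r3⟩
    let π' := (MulEquiv.subgroupCongr (commutator_eq_E' hD h5)).toMonoidHom.comp (r.comp π)
    have k1 : π'.ker ≤ center E := fun z hz => comp_ker_le_center hE hπ.2.1 (π := r) (fun g hg => mem_center_iff.2 fun k =>
      Subtype.ext (mem_center_iff.1 (a7 (z2.ge hg)) k.1)) ((map_eq_one_iff _ (MulEquiv.subgroupCongr (commutator_eq_E' hD h5)).injective).1 hz)
    have k2 := Cl.pext_quad (CExt.of_ker_le (show Function.Surjective π' from (MulEquiv.subgroupCongr (commutator_eq_E' hD h5)).surjective.comp (r1.comp hπ.1)) k1) ⟨hD, by omega, fun e => by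
      rwa [show n + 2 = 4 by omega] at hT⟩ p (hE.1 ▸ le_top)
    have k3 : ∀ z, X.Fix.subtype.comp π z = 1 → D.E.subtype.comp π' z = 1 := fun z hz =>
      (congrArg (fun y => D.E.subtype ((MulEquiv.subgroupCongr (commutator_eq_E' hD h5)).toMonoidHom (r y))) (show π z = 1 from Subtype.ext hz)).trans
        ((congrArg (fun y => D.E.subtype ((MulEquiv.subgroupCongr (commutator_eq_E' hD h5)).toMonoidHom y)) (map_one r)).trans (by simp only [map_one]))
    exact ⟨fun z hz => k2.cen z (k3 z hz), fun z hz => k2.cop z (k3 z hz)⟩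

set_option maxHeartbeats 800000 in
theorem mult_minus (hn : 2 ≤ n) {F V : Type*} [Field F] [Finite F] [AddCommGroup V] [Module F V] [FiniteDimensional F V]
    {D : Form (quadKind F) V} (hD : D.Nondeg) (hV : finrank F V = 2 * (n + 2)) (hT : ¬ D.HasTS (n + 2)) :
    HasCyclicSchurMultiplier (commutator D.isom ⧸ center (commutator D.isom)) (Nat.gcd 4 (Nat.card F ^ (n + 2) + 1)) := by
  classical
  have hK := Known.card_FExt F 2
  obtain ⟨G, _, _, τ, Γ, r, ⟨e⟩, h1, h2, h3, h4, h5, h6, h7, h8⟩ := exists_cover hn hD hV hT hK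
  have k1 : ((QuotientGroup.mk' (center _)).comp r).ker = (center _).comap r := by rw [← MonoidHom.comap_ker, QuotientGroup.ker_mk']
  have k2 : (center _).comap r ≤ center Γ := fun g hg => mem_center_iff.2 fun k => Subtype.ext (mem_center_iff.1 (h6 hg) k.1)
  have c1 := card_comap h1 (center _)
  have c2 := card_comap h5 (center _)
  have c3 : Nat.card (center G) = Nat.gcd 4 (Nat.card F ^ 2 - 1) ∨ Nat.card (center G) = Nat.gcd 2 (Nat.card F ^ 2 - 1) * Nat.gcd 2 (Nat.card F ^ 2 - 1) := by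
    rw [← Nat.card_congr e.toEquiv, ← hK]
    rcases Nat.even_or_odd n with c | c
    · exact Or.inr (by rw [Nat.card_congr ((stdE (n + 1) False).D_ker_even id (ho n) c).some.toEquiv]; simp only [Nat.card_prod, Nat.card_congr Multiplicative.toAdd, Nat.card_zmod])
    · exact Or.inl (by rw [Nat.card_congr ((stdE (n + 1) False).D_ker_odd id (ho n) c).some.toEquiv]; simp only [Nat.card_congr Multiplicative.toAdd, Nat.card_zmod])
  rw [h4, (fPlus_nondeg _).card_center_omega (good_of_finrank (by simp; omega)) (by simp; omega)] at c1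
  rw [hD.card_center_omega (good_of_finrank (by omega)) (by omega)] at c2
  have q0 : 0 < Nat.card F := Nat.card_pos
  have c4 : ∀ m, Nat.card τ.ker = m → m ≤ 2 → Nat.card r.ker = m := fun m a b => by
    rw [← h2, ← a]; exact Nat.card_congr (subgroupOfEquivOfLe (h3 (a ▸ b))).toEquiv
  have key : Nat.card ((center _).comap r) = Nat.gcd 4 (Nat.card F ^ (n + 2) + 1) ∧ IsCyclic ((center _).comap r) := by
    by_cases h : (2 : F) = 0
    · obtain ⟨k, hk⟩ := Nat.not_odd_iff_even.1 (odd_card_iff.not.2 (not_not.2 h))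
      have a : Odd (Nat.card F ^ 2 - 1) := Nat.Even.sub_odd (Nat.one_le_pow _ _ q0) (Nat.even_pow.2 ⟨⟨k, hk⟩, by omega⟩) odd_one
      have a' : Odd (Nat.card F ^ (n + 2) + 1) := (Nat.even_pow.2 ⟨⟨k, hk⟩, by omega⟩).add_one
      have b : ∀ {m}, Odd m → Nat.gcd 4 m = 1 := fun h => (Nat.coprime_two_left.2 h).pow_left 2
      rw [b a, Nat.coprime_two_left.2 a, or_self, c1] at c3
      rw [c4 1 (Nat.eq_one_of_mul_eq_one_right c3) one_le_two, if_neg fun c => c.1 h] at c2
      have := (Nat.card_eq_one_iff_unique.1 c2).1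
      exact ⟨c2.trans (b a').symm, inferInstance⟩
    · obtain ⟨k, hk⟩ := odd_card_iff.2 h
      have h' : (2 : Known.FExt F 2) ≠ 0 := fun c => h ((algebraMap F (Known.FExt F 2)).injective (by rw [map_ofNat, c, map_zero]))
      have a : Nat.card F ^ 2 = 4 * (k * k + k) + 1 := by rw [hk]; ring
      rw [if_pos ⟨h', (negOne_mem_commutator_plus (fPlus_nondeg _) h' (finrank_plus _) (fPlus_hasTS _)).2 (by rw [hK, a]; simp [Nat.pow_mod])⟩] at c1
      rw [a, Nat.add_sub_cancel, Nat.gcd_mul_right_right, show 4 * (k * k + k) = 2 * (2 * (k * k + k)) by ring, Nat.gcd_mul_right_right,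
        or_self] at c3
      rw [c4 2 (by omega) le_rfl, negOne_mem_commutator_minus hD h hV hT] at c2
      have o : Nat.card F ^ (n + 2) % 2 = 1 := Nat.odd_iff.1 (Odd.pow ⟨k, hk⟩)
      split_ifs at c2 with c
      · refine ⟨c2.trans (Nat.gcd_eq_left (by omega)).symm, ?_⟩
        have : IsCyclic (center G) := by
          refine isCyclic_of_surjective _ (((stdE (n + 1) False).D_ker_odd id (ho n) (Nat.not_even_iff_odd.1 fun ⟨j, hj⟩ => ?_)).some.symm.trans
            e).surjective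
          have := c.2
          rw [show n + 2 = 2 * (j + 1) by omega, pow_mul, a] at this
          simp [Nat.pow_mod] at this
        exact isCyclic_of_injective ((Γ.subtype.comp (Subgroup.subtype _)).codRestrict (center G) fun g => h6 g.2)
          fun a b e => Subtype.ext (Subtype.ext (congrArg (fun x : center G => x.1) e))
      · have := Fact.mk Nat.prime_two
        refine ⟨?_, isCyclic_of_prime_card c2⟩
        rw [c2, Nat.gcd_rec, show (Nat.card F ^ (n + 2) + 1) % 4 = 2 by have := not_and.1 c h; omega]; rfl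
  exact hasMult_of_mult_one (stem_of_perfect ⟨h7⟩ (σ := (QuotientGroup.mk' (center _)).comp r) ((QuotientGroup.mk'_surjective _).comp h5) (k1 ▸ k2)) h8
    ((MulEquiv.subgroupCongr k1).trans (key.1 ▸ (zmodCyclicMulEquiv key.2).symm))

end Cfsg.Lib.Mult.TwD
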