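/-
Central extensions of special unitary groups: induction on the dimension.
-/
import Cfsg.Agent.Lib.Phan.Glue
import Cfsg.Agent.Lib.Mult.Transfer
import Cfsg.Agent.Lib.Mult.Prod
import Cfsg.Agent.Lib.Coprime.Basic
import Cfsg.Agent.Lib.Twist.MuB
import Cfsg.Agent.Lib.Twist.FixTorus

set_option autoImplicit false

namespace Cfsg.Lib.Mult.Un

open Module Subgroup Cfsg.Lib.Forms Cfsg.Lib.Forms.Form Cfsg.Lib.Phan Cfsg.Lib.Twist
open scoped commutatorElement

section
variable {E S : Type*} [Group E] [Group S] {π : E →* S} {A B B' : Subgroup S} {K K' : Subgroup E}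

variable (π A) in
/-- There are no non-trivial homomorphisms from `A` to the kernel. -/
def OK : Prop := ∀ f : A →* E, (∀ a, π (f a) = 1) → ∀ a, f a = 1

variable (hc : π.ker ≤ center E)
include hc

theorem OK.cm (h : OK π A) (hA : A ≤ π.range) {t x : E} (ht : ∀ a ∈ A, π t * a = a * π t) (hx : π x ∈ A) : t * x = x * t := by
  choose s hs using fun a : A => hA a.2
  have k : ∀ y, π y ∈ A → π ⁅t, y⁆ = 1 := fun y hy => by
    rw [map_commutatorElement]; exact commutatorElement_eq_one_iff_mul_comm.2 (ht _ hy)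
  have k' : ∀ y y', π y = π y' → ⁅t, y⁆ = ⁅t, y'⁆ := fun y y' e => by
    simpa using commutatorElement_mul_center (a := t) (b := y') (z' := y'⁻¹ * y) (one_mem _) (hc (by simp [e]))
  have := h (MonoidHom.mk' (fun a => ⁅t, s a⁆) fun a b => by
    rw [k' _ (s a * s b) (by simp [hs]), show ⁅t, s a * s b⁆ = ⁅t, s a⁆ * (s a * ⁅t, s b⁆) * (s a)⁻¹ by group,
      mem_center_iff.1 (hc (k _ (hs b ▸ b.2)))]
    group) (fun a => k _ (hs a ▸ a.2)) ⟨_, hx⟩
  exact commutatorElement_eq_one_iff_mul_comm.1 ((k' _ _ (hs ⟨_, hx⟩).symm).trans this)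

theorem OK.mem (h : OK π A) (g : Gr π K B) (g' : Gr π K' B') (h1 : A ≤ B) (h2 : A ≤ B') {t : E} (ht : t ∈ K) (e : π t ∈ A) :
    t ∈ K' := by
  choose s s1 s2 using fun a : A => g.ex a (h1 a.2)
  choose s' s3 s4 using fun a : A => g'.ex a (h2 a.2)
  have k : ∀ a, π (s a * (s' a)⁻¹) = 1 := fun a => by simp [s2, s4]
  have := h (MonoidHom.mk' (fun a => s a * (s' a)⁻¹) fun a b => by
    rw [g.eq (s1 _) (mul_mem (s1 a) (s1 b)) (by simp [s2]), g'.eq (s3 _) (mul_mem (s3 a) (s3 b)) (by simp [s4]),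
      mul_assoc _ (s' a)⁻¹, mem_center_iff.1 (hc (k b))]
    group) k ⟨_, e⟩
  rw [g.eq ht (s1 ⟨_, e⟩) (s2 ⟨_, e⟩).symm, mul_inv_eq_one.1 this]
  exact s3 _

theorem ok_of_perfect {G : Type*} [Group G] (j : G ≃* A) (hG : commutator G = ⊤) : OK π A := fun f hf a => by
  have : commutator G ≤ (f.comp j.toMonoidHom).ker := commutator_le.2 fun x _ y _ => by
    rw [MonoidHom.mem_ker, map_commutatorElement]
    exact commutatorElement_eq_one_iff_mul_comm.2 (mem_center_iff.1 (hc (hf _)) _)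
  simpa using this (hG.ge (mem_top (j.symm a)))

omit hc in
theorem ok_of_gen {p : ℕ} (hπ : PExt π p) {G : Type*} [Group G] (j : G ≃* A)
    (hG : ∀ K : Subgroup G, (∀ x, (∃ k, x ^ p ^ k = 1) → x ∈ K) → K = ⊤) : OK π A := fun f hf a => by
  simpa using (hG (f.comp j.toMonoidHom).ker fun x ⟨k, e⟩ => hπ.cop _ (hf _) k (by rw [← map_pow, e, map_one])).ge
    (mem_top (j.symm a))

theorem exists_gr [Finite E] (hA : A ≤ π.range) {G M : Type*} [Group G] [CommGroup M] (j : G ≃* A) (hG : commutator G = ⊤)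
    (hM : HasSchurMultiplier (G ⧸ center G) M) {r : ℕ} (hr : Nat.card M = r * Nat.card (center G))
    (hz : ∀ z, π z = 1 → z ^ r = 1 → z = 1) : ∃ K, Gr π K A := by
  let ξ : A.comap π →* G := j.symm.toMonoidHom.comp (π.subgroupComap A)
  have x1 : Function.Surjective ξ := j.symm.surjective.comp fun a => let ⟨x, e⟩ := hA a.2; ⟨⟨x, show π x ∈ A from e ▸ a.2⟩, Subtype.ext e⟩
  have x2 : ∀ x, ξ x = 1 ↔ π x = 1 := fun x => (map_eq_one_iff _ j.symm.injective).trans Subtype.ext_iff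
  have x3 : ξ.ker ≤ center _ := fun x hx => mem_center_iff.2 fun y => Subtype.ext (mem_center_iff.1 (hc ((x2 x).1 hx)) y.1)
  let η := ξ.comp (commutator _).subtype
  have y1 : Function.Surjective η := MonoidHom.range_eq_top.1 (by
    rw [MonoidHom.range_comp, range_subtype, map_commutator_eq, MonoidHom.range_eq_top.2 x1, ← commutator_def, hG])
  have y2 : η.ker ≤ center _ := fun x hx => mem_center_iff.2 fun y => Subtype.ext (mem_center_iff.1 (x3 hx) y.1)
  have y3 : Group.IsPerfect (commutator (A.comap π)) := ⟨eq_top_iff.2 fun x _ => by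
    obtain ⟨y, hy, e⟩ := (map_commutator_of_lift (ξ := ξ) (η := (commutator _).subtype) rfl y1 x3).ge x.2
    exact Subtype.ext e ▸ hy⟩
  obtain ⟨φ, hφ⟩ := surj_of_stem hM (stem_of_perfect y3 (σ := (QuotientGroup.mk' (center G)).comp η)
    ((QuotientGroup.mk'_surjective _).comp y1) (comp_ker_le_center y3 y2 (QuotientGroup.ker_mk' _).le))
  have := finite_mult hM
  have : Finite G := Finite.of_surjective _ x1
  have y4 := card_dvd_of_surjective _ hφ
  rw [← MonoidHom.comap_ker, QuotientGroup.ker_mk', hr, ← card_inf_ker_mul η, inf_eq_left.2 (ker_le_comap _ _),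
    map_comap_eq_self_of_surjective y1, Nat.mul_dvd_mul_iff_right Nat.card_pos] at y4
  refine ⟨(commutator (A.comap π)).map (Subgroup.subtype _), fun _ ⟨x, _, e⟩ => e ▸ x.2, fun s hs => ?_, fun _ ⟨x, hx, e⟩ e' => hz _ e' ?_⟩
  · obtain ⟨x, e⟩ := y1 (j.symm ⟨s, hs⟩)
    exact ⟨_, ⟨x.1, x.2, rfl⟩, congrArg Subtype.val (j.symm.injective e)⟩
  · subst e
    obtain ⟨c, rfl⟩ := y4
    rw [pow_mul, show (A.comap π).subtype x ^ _ = 1 from congrArg (fun y : η.ker => y.1.1.1) (pow_card_eq_one' (x := ⟨⟨x, hx⟩, (x2 x).2 e'⟩)),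
      one_pow]

omit hc in
theorem gr_of_gen [Finite E] {p : ℕ} [Fact p.Prime] (hπ : PExt π p) (hA : A ≤ π.range) {G M : Type*} [Group G] [CommGroup M] (j : G ≃* A)
    (hG : ∀ K : Subgroup G, (∀ x, (∃ k, x ^ p ^ k = 1) → x ∈ K) → K = ⊤) (hM : HasSchurMultiplier G M) (hp : IsPGroup p M) :
    Gr π (pl π p A) A := by
  let ξ : A.comap π →* G := j.symm.toMonoidHom.comp (π.subgroupComap A)
  have x1 : Function.Surjective ξ := j.symm.surjective.comp fun a => let ⟨x, e⟩ := hA a.2; ⟨⟨x, show π x ∈ A from e ▸ a.2⟩, Subtype.ext e⟩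
  have x2 : ∀ x, ξ x = 1 ↔ π x = 1 := fun x => (map_eq_one_iff _ j.symm.injective).trans Subtype.ext_iff
  obtain ⟨φ, hφ⟩ := mult_surj_central hM x1 fun x hx => mem_center_iff.2 fun y => Subtype.ext (hπ.cen _ ((x2 x).1 hx) y.1).symm
  refine ⟨fun _ => map_pl, fun s hs => ?_, fun z hz e => ?_⟩
  · simpa using (hG (((pl π p A).map π).comap (A.subtype.comp j.toMonoidHom)) fun x hx => by
      obtain ⟨k, hk⟩ := hx
      obtain ⟨g, h1, h2⟩ := hπ.exists_lift (A := zpowers (j x).1) (fun ⟨_, i, rfl⟩ => ⟨k, Subtype.ext (by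
        show ((j x).1 ^ i) ^ p ^ k = 1
        rw [← zpow_natCast, ← zpow_mul, mul_comm, zpow_mul, zpow_natCast, ← SubmonoidClass.coe_pow, ← map_pow, hk]
        simp)⟩) (mem_zpowers _) (hA (j x).2)
      exact ⟨g, pl_mono (zpowers_le.2 (j x).2) h1, h2⟩).ge (mem_top (j.symm ⟨s, hs⟩))
  · obtain ⟨z, hk, rfl⟩ := (closure_le (K := ((CommGroup.primaryComponent _ p).comap (Abelianization.of (G := A.comap π))).map
      (Subgroup.subtype _))).2 (fun g (⟨a, k, b⟩ : _ ∧ ∃ k, _) => ⟨⟨g, a⟩, CommGroup.mem_primaryComponent.2 ⟨k, by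
        rw [← map_pow, show (⟨g, a⟩ : A.comap π) ^ p ^ k = 1 from Subtype.ext b, map_one]⟩, rfl⟩) hz
    obtain ⟨k, hk⟩ := CommGroup.mem_primaryComponent.1 hk
    obtain ⟨l, hl⟩ := hp.of_surjective φ hφ ⟨z ^ p ^ k, pow_mem ((x2 z).2 e) _, (Abelianization.ker_of _).le ((map_pow _ _ _).trans hk)⟩
    exact hπ.cop _ e (k + l) (by rw [pow_add, pow_mul]; exact congrArg (fun y => y.1.1) hl)

theorem pow_relIndex [Finite E] (P : Subgroup S) {H : Subgroup S} (h2 : H ≤ π.range) {z : E} (hz : z ∈ ⁅H.comap π, H.comap π⁆)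
    (e : π z = 1) : z ^ P.relIndex H ∈ ⁅P.comap π, P.comap π⁆ := by
  obtain ⟨z, hz', rfl⟩ := (map_subtype_commutator _).ge hz
  have := mem_map_of_mem (Subgroup.subtype _) (pow_index_mem_commutator (H := (P.subgroupOf H).comap (π.subgroupComap H))
    (mem_center_iff.2 fun y => Subtype.ext (mem_center_iff.1 (hc e) y.1)) hz')
  rw [index_comap_of_surjective _ fun a => let ⟨x, e⟩ := h2 a.2; ⟨⟨x, show π x ∈ H from e ▸ a.2⟩, Subtype.ext e⟩, map_commutator] at this
  exact commutator_mono (by rintro _ ⟨y, hy, rfl⟩; exact hy) (by rintro _ ⟨y, hy, rfl⟩; exact hy) this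

theorem cm_of_comm {H : Subgroup S} (hH : H ≤ π.range) {a u : E} (ha : ∀ g ∈ H, π a * g = g * π a) (hu : π u ∈ ⁅H, H⁆) : a * u = u * a := by
  rw [← map_comap_eq_self hH, ← map_commutator] at hu
  obtain ⟨v, hv, e⟩ := hu
  obtain ⟨v, hv', rfl⟩ := (map_subtype_commutator _).ge hv
  have k : ∀ (y : H.comap π) x, x * ⁅y.1, a⁆ = ⁅y.1, a⁆ * x := fun y x => mem_center_iff.1 (hc (by
    rw [MonoidHom.mem_ker, map_commutatorElement]; exact commutatorElement_eq_one_iff_mul_comm.2 (ha _ y.2).symm)) x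
  have : commutator (H.comap π) ≤ (MonoidHom.mk' (fun y => ⁅y.1, a⁆) fun x y => by
      rw [k y, show ⁅(x * y).1, a⁆ = x.1 * ⁅y.1, a⁆ * x.1⁻¹ * ⁅x.1, a⁆ by rw [coe_mul]; group, k y, mul_inv_cancel_right]).ker :=
    commutator_le.2 fun x _ y _ => by
      rw [MonoidHom.mem_ker, map_commutatorElement]; exact commutatorElement_eq_one_iff_mul_comm.2 (k y _)
  rw [← mul_inv_cancel_left v.1 u, ← mul_assoc, ← commutatorElement_eq_one_iff_mul_comm.1 (this hv'), mul_assoc, mul_assoc,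
    mem_center_iff.1 (hc (by simp [← e])) a]

theorem inf_ker_sup [Finite E] {Q : Subgroup S} {t : S} (h1 : Q ⊔ zpowers t ≤ π.range) (h2 : t ∈ normalizer (Q : Set S))
    (h3 : (Nat.card (zpowers t)).Coprime (Nat.card Q)) (h4 : ∀ z ∈ ⁅Q.comap π, Q.comap π⁆, π z = 1 → z = 1) :
    ∀ z ∈ ⁅(Q ⊔ zpowers t).comap π, (Q ⊔ zpowers t).comap π⁆, π z = 1 → z = 1 := fun z hz e => by
  have : Finite π.range := Finite.of_surjective _ π.rangeRestrict_surjective
  have : Finite (Q ⊔ zpowers t : Subgroup S) := Finite.of_injective _ (inclusion_injective h1)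
  have c := Coprime.card_sup_of_disjoint' (zpowers_le.2 h2) (Coprime.inf_eq_bot_of_coprime_card h3)
  have c' : ∀ P ≤ Q ⊔ zpowers t, P.relIndex (Q ⊔ zpowers t) * Nat.card P = Nat.card Q * Nat.card (zpowers t) := fun P hP => by
    rw [← c, ← Nat.card_congr (subgroupOfEquivOfLe hP).toEquiv]; exact index_mul_card _
  have p0 : 0 < Nat.card Q * Nat.card (zpowers t) := c ▸ Nat.card_pos
  have a := h4 _ (pow_relIndex hc Q h1 hz e) (by rw [map_pow, e, one_pow])
  have b : z ^ _ = 1 := mem_bot.1 (commutator_le.2 (fun x hi y hj => by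
    obtain ⟨i, hi⟩ := mem_zpowers_iff.1 (mem_comap.1 hi)
    obtain ⟨j, hj⟩ := mem_zpowers_iff.1 (mem_comap.1 hj)
    obtain ⟨s, rfl⟩ := h1 (mem_sup_right (mem_zpowers t))
    have := commutatorElement_mul_center (a := s ^ i) (b := s ^ j) (z := (s ^ i)⁻¹ * x) (z' := (s ^ j)⁻¹ * y)
      (hc (by simp [← hi])) (hc (by simp [← hj]))
    rw [mul_inv_cancel_left, mul_inv_cancel_left] at this
    rw [this, mem_bot]; exact commutatorElement_eq_one_iff_mul_comm.2 (zpow_mul_comm s i j)) (pow_relIndex hc (zpowers t) h1 hz e))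
  rw [Nat.eq_of_mul_eq_mul_right (Nat.pos_of_mul_pos_right p0) ((c' Q le_sup_left).trans (mul_comm _ _))] at a
  rw [Nat.eq_of_mul_eq_mul_right (Nat.pos_of_mul_pos_left p0) (c' _ le_sup_right)] at b
  have := pow_gcd_eq_one.2 ⟨a, b⟩
  rwa [h3, pow_one] at this

theorem inf_ker_cyclic {C : Type*} [Group C] [IsCyclic C] (δ : S →* C) (h : OK π δ.ker) (g : Gr π K δ.ker) :
    ∀ z ∈ commutator E, π z = 1 → z = 1 := by
  have hn : K.Normal := ⟨fun k hk x => h.mem hc (K := K.map (MulAut.conj x).toMonoidHom) ⟨fun _ ⟨y, hy, e⟩ => e ▸ by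
      simpa using δ.normal_ker.conj_mem _ (g.mem y hy) (π x), fun s hs => by
      obtain ⟨y, hy, e⟩ := g.ex _ (δ.normal_ker.conj_mem _ hs (π x)⁻¹)
      exact ⟨_, ⟨y, hy, rfl⟩, by simp [e, mul_assoc]⟩, fun _ ⟨y, hy, e⟩ e' => by
      rw [← e, g.inj y hy (by simpa [← e, mul_inv_eq_one] using e'), map_one]⟩ g le_rfl le_rfl ⟨k, hk, rfl⟩
      (by simpa using δ.normal_ker.conj_mem _ (g.mem k hk) (π x))⟩
  have h1 := MonoidHom.isMulCommutative_of_isCyclic_of_ker_le_center (QuotientGroup.lift K (δ.comp π) g.mem) fun x hx => by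
    obtain ⟨x, rfl⟩ := QuotientGroup.mk_surjective x
    obtain ⟨y, hy, e⟩ := g.ex _ hx
    rw [mem_center_iff]
    intro u
    obtain ⟨u, rfl⟩ := QuotientGroup.mk_surjective u
    rw [← inv_mul_cancel_right x y, QuotientGroup.mk_mul, (QuotientGroup.eq_one_iff _).2 hy, mul_one, ← QuotientGroup.mk_mul,
      mem_center_iff.1 (hc (by simp [e])), QuotientGroup.mk_mul]
  exact fun z hz => g.inj z ((QuotientGroup.ker_mk' K).le (commutator_le.2 (fun a _ b _ => by
    rw [MonoidHom.mem_ker, map_commutatorElement]; exact commutatorElement_eq_one_iff_mul_comm.2 (h1.1.1 _ _)) hz))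

end

variable {F : Type*} [Field F] {σ : F →+* F} {q : ℕ} {h : IsConj σ q} {V : Type*} [AddCommGroup V] [Module F V] {D : Form h.kind V}
  {E : Type*} [Group E] {π : E →* D.isom} {e : ℕ → V} {N : ℕ} [FiniteDimensional F V]

theorem ind (hD : D.Nondeg) (hO : OnS D e N) (hc : π.ker ≤ center E) {m d : ℕ} (hm : 3 ≤ m) (hd : d + 1 ≤ m)
    (H0 : 4 ≤ q ∨ 4 ≤ m ∧ d + 2 ≤ m) (ok : ∀ i k, d ≤ k → i + k ≤ N → OK π (SUb D (sp F e i (i + k))))
    (base : ∀ i, i + m ≤ N → ∃ K, Gr π K (SUb D (sp F e i (i + m)))) (k : ℕ) (hk : m ≤ k) :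
    ∀ i, i + k ≤ N → ∃ K, Gr π K (SUb D (sp F e i (i + k))) := by
  induction k, hk using Nat.le_induction with
  | base => exact base
  | succ k hk ih =>
  intro i H
  obtain ⟨j, rfl⟩ : ∃ j, k = j + 3 := ⟨k - 3, by omega⟩
  obtain ⟨K, g⟩ := ih i (by omega)
  obtain ⟨T, g'⟩ := ih (i + 1) (by omega)
  rw [show i + 1 + (j + 3) = i + (j + 3 + 1) by omega] at g'
  have r : ∀ l, l ≤ j + 3 → SUb D (sp F e i (i + l)) ≤ π.range := fun l hl s hs =>
    let ⟨x, _, e⟩ := g.ex s (SUb_mono (sp_mono _ le_rfl (by omega)) hs); ⟨x, e⟩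
  refine ⟨_, step hD (hO.nd H) (hO.nd H) (sp_mono e (by omega) le_rfl) (by rw [hO.finrank_eq H]; omega)
    (by rw [hO.finrank_eq H]; omega) (hO.on3 (i := i + j + 1) H) (mem_sp e (by omega) (by omega)) (mem_sp e (by omega) (by omega))
    (mem_sp e (by omega) (by omega)) (hO.mem_last (j := i + (j + 3)) (by omega) H) g g' (fun t ht e' => ?_) (fun t ht e' x hx e'' => ?_)
    (H0.imp_right fun ⟨a, b⟩ => ⟨by rw [hO.finrank_eq H]; omega, ⟨e (i + j), mem_sp e (by omega) (by omega),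
      hO.unit _ (by omega), hO.orth _ (by omega) _ (by omega) (by omega),
      hO.orth _ (by omega) _ (by omega) (by omega), hO.orth _ (by omega) _ (by omega) (by omega)⟩, fun t ht e' x hx e1 e2 => ?_⟩)⟩
  · refine (ok (i + 1) (j + 2) (by omega) (by omega)).mem hc g' g (SUb_mono (sp_mono e le_rfl (by omega)))
      (SUb_mono (sp_mono e (by omega) (by omega))) ht ?_
    rw [show i + 1 + (j + 2) = i + (j + 3) by omega]
    exact (hO.mem_last (j := i + (j + 3)) (by omega) H _).2 ⟨g'.mem t ht, e'⟩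
  · rw [sp_two] at e'
    exact (ok i (j + 2) (by omega) (by omega)).cm hc (r _ (by omega)) (fun a ha => (hO.cm (by omega) H hD a ha _ e').symm)
      ((hO.mem_last (by omega) (by omega) _).2 ⟨g.mem x hx, e''⟩)
  · rw [sp_three] at e'
    exact (ok i (j + 1) (by omega) (by omega)).cm hc (r _ (by omega)) (fun a ha => (hO.cm (by omega) H hD a ha _ e').symm)
      ((hO.mem_last (by omega) (by omega) _).2 ⟨(hO.mem_last (by omega) (by omega) _).2 ⟨g.mem x hx, e1⟩, e2⟩)

end Cfsg.Lib.Mult.Un
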