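/-
The Schur multiplier of `SU₃(q)`, `q > 2`, is trivial.
-/
import Cfsg.Agent.Lib.Mult.UA
import Cfsg.Agent.Lib.JTW.Cen2
import Cfsg.Agent.Lib.Fus3.Rank2Cl
import Cfsg.Agent.Lib.Phan.LocF
import Cfsg.Agent.S2117
import Cfsg.Agent.S2118

set_option autoImplicit false
set_option linter.unusedSectionVars false

namespace Cfsg.Lib.Mult.Un
open Subgroup Cfsg.Lib.Forms Cfsg.Lib.U3 Cfsg.Lib.Chev Cfsg.Lib.Twist Cfsg.Lib.JTW.Cen
open scoped commutatorElement

variable {F : Type*} [Field F] {σ : F →+* F} {q : ℕ} (h : IsConj σ q) {E : Type*} [Group E]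

include h in
theorem cast_q : (q : F) = 0 := by
  have := h.finite
  have := Fintype.ofFinite F
  exact pow_eq_zero_iff two_ne_zero |>.1 (by rw [← Nat.cast_pow, ← h.card, Nat.card_eq_fintype_card, FiniteField.cast_card_eq_zero])

include h in
theorem odd_q (h2 : (2 : F) ≠ 0) : Odd q := by
  have := h.finite
  exact (Nat.odd_pow_iff two_ne_zero).1 (h.card ▸ odd_card_iff.2 h2)

include h in
theorem three_le (h2 : (2 : F) ≠ 0) : 3 ≤ q := by
  have := h.two_le
  have := Nat.odd_iff.1 (odd_q h h2)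
  omega

include h in
theorem exists_pair (h2 : (2 : F) ≠ 0) :
    ∃ c c' : Fˣ, (kk σ c : F) + kk σ c' = 1 ∧ (kk σ c : F)⁻¹ + (kk σ c' : F)⁻¹ ≠ 1 := by
  have := h.finite
  have key : ∀ p : F → Prop, 4 < Nat.card {x // p x} → ∃ v, p v ∧ v * (1 - v) * (v ^ 2 - v + 1) ≠ 0 := fun p hp => by
    by_contra! e
    have h1 : Nat.card {x : F // x * (1 - x) * (x ^ 2 - x + 1) = 0} ≤ 4 := by
      classical
      have := Fintype.ofFinite F
      rw [Nat.card_eq_fintype_card, Fintype.card_subtype]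
      let f : Polynomial F := Polynomial.X * (1 - Polynomial.X) * (Polynomial.X ^ 2 - Polynomial.X + 1)
      have h3 : f.natDegree = 4 := by simp only [f]; compute_degree!
      have h4 : f ≠ 0 := fun c => by simp [c] at h3
      exact le_trans (Polynomial.card_le_degree_of_subset_roots (p := f) fun x hx => (Polynomial.mem_roots h4).2 (by
        simpa [f] using hx)) h3.le
    exact absurd (Nat.card_le_card_of_injective (fun x : {x // p x} => (⟨x, e x x.2⟩ : {x : F // x * (1 - x) * (x ^ 2 - x + 1) = 0}))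
      fun x y e => Subtype.ext (Subtype.mk.inj e)) (by omega)
  obtain ⟨v, hv, c, c', e, e'⟩ : ∃ v : F, v * (1 - v) * (v ^ 2 - v + 1) ≠ 0 ∧ ∃ c c' : Fˣ, (kk σ c : F) = v ∧ (kk σ c' : F) = 1 - v := by
    have a : ∀ v : F, v * (1 - v) * (v ^ 2 - v + 1) ≠ 0 → v ≠ 0 ∧ 1 - v ≠ 0 := fun v hv => ⟨fun e => hv (by simp [e]), fun e => hv (by simp [e])⟩
    rcases (three_le h h2).eq_or_lt with hq | hq
    · obtain ⟨v, -, hv⟩ := key (fun _ => True) (by
        rw [Nat.card_congr (Equiv.subtypeUnivEquiv fun _ => trivial), h.card, ← hq]; norm_num)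
      have b : ∀ v : F, v ≠ 0 → ∃ c : Fˣ, (kk σ c : F) = v := fun v h0 => ⟨Units.mk0 v h0 ^ 5, by
        have := Fintype.ofFinite F
        have h1 : v ^ 8 = 1 := by
          simpa [← Nat.card_eq_fintype_card, h.card, ← hq] using FiniteField.pow_card_sub_one_eq_one v h0
        rw [kk_val, h.apply, ← hq, div_eq_iff (Units.ne_zero _)]
        simp only [Units.val_pow_eq_pow_val, Units.val_mk0]
        linear_combination (v ^ 6 * (v ^ 16 + v ^ 8 + 1)) * h1⟩
      obtain ⟨c, e⟩ := b v (a v hv).1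
      obtain ⟨c', e'⟩ := b _ (a v hv).2
      exact ⟨v, hv, c, c', e, e'⟩
    · obtain ⟨v, h1, hv⟩ := key (fun x => σ x = x) (by
        have := Nat.odd_iff.1 (odd_q h h2)
        rw [h.card_fixed]; omega)
      have b : ∀ v : F, σ v = v → v ≠ 0 → ∃ c : Fˣ, (kk σ c : F) = v := fun v h1 h0 =>
        ⟨Units.mk0 v h0, by simp [kk_val, h1, h0]⟩
      obtain ⟨c, e⟩ := b v h1 (a v hv).1
      obtain ⟨c', e'⟩ := b _ (by simp [h1]) (a v hv).2
      exact ⟨v, hv, c, c', e, e'⟩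
  refine ⟨c, c', by rw [e, e']; ring, fun h3 => hv ?_⟩
  have h4 := e ▸ (kk σ c).ne_zero
  have h5 := e' ▸ (kk σ c').ne_zero
  rw [e, e'] at h3
  field_simp at h3
  linear_combination (v * (1 - v)) * h3

include h in
theorem exists_pow_ne {n : ℕ} (hn : 0 < n) (h1 : Nat.gcd (Nat.card F - 1) n < q + 1) : ∃ c : F, c * σ c = 1 ∧ c ^ n ≠ 1 := by
  have := h.finite
  by_contra! e
  have h2 := Nat.card_le_card_of_injective (fun x : {x : F // x * σ x = 1} => (⟨x, e x x.2⟩ : {x : F // x ^ n = 1}))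
      fun x y e => Subtype.ext (Subtype.mk.inj e)
  rw [h.card_norm_one, card_pow_eq_one n hn.ne'] at h2
  omega

include h in
theorem exists_norm_one (h2 : (2 : F) ≠ 0) : ∃ c : Fˣ, (c : F) * σ c = 1 ∧ (kk σ c : F) ≠ 1 := by
  obtain ⟨x, h1, h3⟩ := exists_pow_ne h (n := 3) (by norm_num) (by
    have := Nat.gcd_le_right (Nat.card F - 1) (show 0 < 3 by norm_num)
    have := three_le h h2
    omega)
  refine ⟨Units.mk0 x (left_ne_zero_of_mul_eq_one h1), h1, fun e => h3 ?_⟩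
  rw [kk_val, div_eq_one_iff_eq (Units.ne_zero _), Units.val_mk0] at e
  linear_combination (-x ^ 2) * e + (x * σ x + 1) * h1

theorem comm_U (h2 : (2 : F) ≠ 0) {π : E →* SU3 h} (hπ : CExt π) :
    ∀ z ∈ ⁅(nn h).range.comap π, (nn h).range.comap π⁆, π z = 1 → z = 1 := by
  have := h.finite
  let A : ℕ → Subgroup E := fun k =>
    (if k = 0 then (nn h).range else if k = 1 then (center (U3.Heis h)).map (nn h) else ⊥).comap π
  let c : ℕ → E → F := fun k g => (π g).1.1 ![1, 0, 0] (if k = 0 then 1 else 2)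
  have c0 : ∀ g x, π g = nn h x → c 0 g = x.a := fun g x e => by simp [c, e, nn_apply]
  have c1 : ∀ g x, π g = nn h x → c 1 g = x.b := fun g x e => by simp [c, e, nn_apply]
  have m0 : ∀ g, g ∈ A 0 ↔ ∃ x, π g = nn h x := fun g => exists_congr fun x => eq_comm
  have m1 : ∀ g, g ∈ A 1 ↔ ∃ x, x.a = 0 ∧ π g = nn h x := fun g => exists_congr fun x =>
    and_congr U3.Heis.mem_center eq_comm
  have m2 : ∀ k g, g ∈ A (k + 2) ↔ π g = 1 := fun k g => Iff.rfl
  have cj : ∀ (d : Fˣ) g x, π g = nn h x → π (hπ.sec (dd h d) * g * (hπ.sec (dd h d))⁻¹) = nn h (U3.Heis.dil h (kk σ d) x) :=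
    fun d g x e => by rw [map_mul, map_mul, map_inv, hπ.map_sec, e, dd_conj]
  have hH : ∀ d, hπ.sec (dd h d) ∈ (dd h).range.comap π := fun d => ⟨d, (hπ.map_sec _).symm⟩
  have s0 : ∀ d : Fˣ, Scl (A 0) (c 0) (hπ.sec (dd h d)) (kk σ d) := fun d g hg => by
    obtain ⟨x, e⟩ := (m0 g).1 hg
    rw [c0 _ _ (cj d g x e), c0 _ _ e]; rfl
  have s1 : ∀ d : Fˣ, Scl (A 1) (c 1) (hπ.sec (dd h d)) (d * σ d) := fun d g hg => by
    obtain ⟨x, -, e⟩ := (m1 g).1 hg
    have := (map_ne_zero σ).2 d.ne_zero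
    rw [c1 _ _ (cj d g x e), c1 _ _ e, U3.Heis.dil_b, kk_val]
    simp only [map_div₀, map_mul, h.σσ]
    field_simp
  have cm : ∀ u ∈ A 1, ∀ a ∈ A 1, ⁅u, a⁆ = 1 := fun u hu a ha => by
    obtain ⟨x, x0, e⟩ := (m1 u).1 hu
    obtain ⟨y, y0, e'⟩ := (m1 a).1 ha
    have h3 : commutator (U3.Heis h) ≤ (hπ.cmSub (nn h x)).comap (nn h) := commutator_le.2 fun b _ c _ => by
      have k : ∀ b, nn h x * nn h b = nn h b * nn h x := fun b => by
        rw [← map_mul, ← map_mul, mem_center_iff.1 (U3.Heis.mem_center.2 x0)]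
      rw [mem_comap, map_commutatorElement]
      exact hπ.cm_comm (k b) (k c)
    exact commutatorElement_eq_one_iff_mul_comm.2 (h3 (U3.Heis.commutator_eq.ge (U3.Heis.mem_center.2 y0)) u a e e')
  have hF : Fil π.ker ((dd h).range.comap π) A c 2 := by
    refine ⟨hπ.cent, rfl, fun k hk => ?_, fun k u hu a ha => ?_, ?_⟩
    · obtain rfl | rfl : k = 0 ∨ k = 1 := by omega
      · refine ⟨fun g hg => ((m1 g).1 hg).elim fun x e => (m0 g).2 ⟨x, e.2⟩, fun a ha b hb => ?_, fun a ha => ?_,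
          fun g ⟨d, e⟩ a ha => ?_⟩
        · obtain ⟨x, e⟩ := (m0 a).1 ha
          obtain ⟨y, e'⟩ := (m0 b).1 hb
          rw [c0 _ _ e, c0 _ _ e', c0 _ (x * y) (by rw [map_mul, map_mul, e, e'])]; rfl
        · obtain ⟨x, e⟩ := (m0 a).1 ha
          rw [c0 _ _ e, m1]
          exact ⟨fun h => ⟨x, h, e⟩, fun ⟨y, h1, h2⟩ => nn_injective h (e.symm.trans h2) ▸ h1⟩
        · obtain ⟨x, e'⟩ := (m0 a).1 ha
          exact (m0 _).2 ⟨_, by rw [map_mul, map_mul, map_inv, ← e, e', dd_conj]⟩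
      · refine ⟨fun g hg => (m1 g).2 ⟨1, rfl, by rw [map_one]; exact hg⟩, fun a ha b hb => ?_, fun a ha => ?_,
          fun g ⟨d, e⟩ a ha => ?_⟩
        · obtain ⟨x, x0, e⟩ := (m1 a).1 ha
          obtain ⟨y, y0, e'⟩ := (m1 b).1 hb
          rw [c1 _ _ e, c1 _ _ e', c1 _ (x * y) (by rw [map_mul, map_mul, e, e'])]; simp [y0]
        · obtain ⟨x, -, e⟩ := (m1 a).1 ha
          rw [c1 _ _ e, m2 0, e]
          exact ⟨fun h => by rw [U3.Heis.eq_one_of_b h, map_one], fun h1 => by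
            rw [nn_injective h (h1.trans (map_one _).symm)]; rfl⟩
        · obtain ⟨x, x0, e'⟩ := (m1 a).1 ha
          exact (m1 _).2 ⟨U3.Heis.dil h (kk σ d) x, by simp [x0], by rw [map_mul, map_mul, map_inv, ← e, e', dd_conj]⟩
    · obtain ⟨x, e⟩ := (m0 u).1 hu
      obtain _ | _ | k := k
      · obtain ⟨y, e'⟩ := (m0 a).1 ha
        exact (m1 _).2 ⟨⁅x, y⁆, U3.Heis.commutator_a x y, by rw [map_commutatorElement, map_commutatorElement, e, e']⟩
      · obtain ⟨y, y0, e'⟩ := (m1 a).1 ha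
        rw [m2 0, map_commutatorElement, e, e', ← map_commutatorElement, commutatorElement_eq_one_iff_mul_comm.2
          (mem_center_iff.1 (U3.Heis.mem_center.2 y0) x), map_one]
      · rw [m2 (k + 1), map_commutatorElement, (m2 k a).1 ha, commutatorElement_one_right]
    · rintro g ⟨d, e⟩ g' ⟨d', e'⟩
      rw [MonoidHom.mem_ker, map_commutatorElement, ← e, ← e', ← map_commutatorElement,
        commutatorElement_eq_one_iff_mul_comm.2 (mul_comm _ _), map_one]
  refine hF.descend le_rfl two_pos hF.lf_bot (fun k hk j hj => ?_) fun k hk h0 => ?_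
  · obtain ⟨rfl, rfl⟩ | ⟨rfl, rfl⟩ | ⟨rfl, rfl⟩ : j = 0 ∧ k = 0 ∨ j = 0 ∧ k = 1 ∨ j = 1 ∧ k = 1 := by omega
    · obtain ⟨d, d', e, e'⟩ := exists_pair h h2
      exact .inr (.inl ⟨_, hH d, _, hH d', _, _, _, _, s0 d, s0 d', e, s0 d, s0 d', Units.ne_zero _, Units.ne_zero _, e'⟩)
    · obtain ⟨d, e, e'⟩ := exists_norm_one h h2
      exact .inl ⟨_, hH d, _, e', .inr ⟨s0 d, e ▸ s1 d⟩⟩
    · exact .inr (.inr fun u hu a ha => ⟨u, hu, a, ha, rfl, rfl, cm u hu a ha⟩)
  · obtain rfl : k = 1 := by omega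
    obtain ⟨a, a0, a1⟩ := Phan.exists_norm_ne h (three_le h h2)
    exact ⟨_, hH (Units.mk0 a a0), _, a1, s1 _⟩

include h in
theorem su_gen' (p : ℕ) [Fact p.Prime] [CharP F p] {m : ℕ} (hm : 2 ≤ m) (K : Subgroup (SU m F q))
    (H : ∀ x, (∃ k, x ^ p ^ k = 1) → x ∈ K) : K = ⊤ := by
  obtain rfl | hm := hm.eq_or_lt
  · exact Phan.su_gen2 h p K fun x e => H x ⟨1, by rwa [pow_one]⟩
  · exact Phan.su_gen h p hm K H

include h in
theorem comm_GU [Finite E] (h2 : (2 : F) ≠ 0) (p : ℕ) [Fact p.Prime] [CharP F p] {π : E →* GU 2 F q} (hs : Function.Surjective π)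
    (hπ : PExt π p) : ∀ z ∈ commutator E, π z = 1 → z = 1 := by
  have := h.finite
  let ξ := (guEquiv h 2).toMonoidHom.comp π
  have x1 : ∀ z, ξ z = 1 ↔ π z = 1 := fun z => map_eq_one_iff _ (guEquiv h 2).injective
  have x2 : PExt ξ p := ⟨fun z e => hπ.cen z ((x1 z).1 e), fun z e => hπ.cop z ((x1 z).1 e)⟩
  have x3 : (stdHerm h (Fin 2)).det.ker ≤ ξ.range := fun g _ => ((guEquiv h 2).surjective.comp hs) g
  obtain ⟨j⟩ := Phan.nonempty_sl2 h
  have := Fintype.ofFinite (σ.eqLocusField (RingHom.id F))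
  have c : Fintype.card (σ.eqLocusField (RingHom.id F)) = q := by rw [← Nat.card_eq_fintype_card, Phan.card_fix h]
  have g : Phan.Gr ξ (pl ξ p (stdHerm h (Fin 2)).det.ker) (stdHerm h (Fin 2)).det.ker := by
    by_cases c9 : q = 9
    · obtain rfl : p = 3 := (Nat.prime_dvd_prime_iff_eq Fact.out Nat.prime_three).1 ((Fact.out : p.Prime).dvd_of_dvd_pow (n := 2)
        ((CharP.cast_eq_zero_iff F p _).1 (by simpa [c9] using cast_q h)))
      exact gr_of_gen x2 x3 (suEquiv h 2) (su_gen' h 3 le_rfl) (mult_congr_left (Cfsg.Agent.S2118.result (c.trans c9)) j.symm)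
        (IsPGroup.of_card (n := 1) (by simp))
    · exact gr_of_gen x2 x3 (suEquiv h 2) (su_gen' h p le_rfl) (mult_congr_left (Cfsg.Agent.S2117.result (by
        have := Nat.odd_iff.1 (odd_q h h2)
        omega) (c ▸ c9)) j.symm) (IsPGroup.of_card (n := 0) (by simp))
  exact fun z hz e => inf_ker_cyclic (fun z e => mem_center_iff.2 fun g => (x2.cen z e g).symm) _
    (ok_of_gen x2 (suEquiv h 2) (su_gen' h p le_rfl)) g z hz ((x1 z).2 e)

include h in
theorem su3_odd (hF : (2 : F) ≠ 0) : HasCyclicSchurMultiplier (SU 3 F q) 1 := by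
  have := h.finite
  obtain ⟨f⟩ := nonempty_su h
  have q4 := three_le h hF
  have q2 := Nat.odd_iff.1 (odd_q h hF)
  have hc := card_SU3 h
  obtain ⟨l, hl⟩ := CharP.exists F
  have := Fact.mk (CharP.char_is_prime F l)
  obtain ⟨m, hm⟩ : ∃ m, q = l ^ m := by
    have := Fintype.ofFinite F
    obtain ⟨m, -, hm⟩ := FiniteField.card F l
    rw [← Nat.card_eq_fintype_card, h.card] at hm
    obtain ⟨k, -, hk⟩ := (Nat.dvd_prime_pow (Fact.out : l.Prime)).1 (hm ▸ dvd_pow_self q two_ne_zero)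
    exact ⟨k, hk⟩
  refine Mult.mult_congr_left (Mult.mult_one_iff.2 fun Γ _ _ π hπ => ?_) f.symm
  have h1 := CExt.of_ker_le hπ.1 hπ.2.1
  have iU : (nn h).range.index = (q ^ 3 + 1) * (q ^ 2 - 1) := by
    have := (nn h).range.card_mul_index
    rw [← Nat.card_congr (MonoidHom.ofInjective (nn_injective h)).toEquiv, U3.Heis.card, hc] at this
    exact Nat.eq_of_mul_eq_mul_left (by positivity) this
  have oU : ¬ l ∣ (nn h).range.index := fun c => by
    have := (CharP.cast_eq_zero_iff F l _).2 c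
    rw [iU] at this
    push_cast [Nat.one_le_pow _ _ (show 0 < q by omega), cast_q h] at this
    simp at this
  have tr : ∀ (P : Subgroup (SU3 h)) {a}, a.Coprime P.index → (∀ z ∈ ⁅P.comap π, P.comap π⁆, π z = 1 → z = 1) →
      ∀ z, π z = 1 → z ^ a = 1 → z = 1 := fun P a ha hP z e e' => by
    have h6 := hP _ (Mult.pow_index_mem_commutator (hπ.2.1 e) (hπ.2.2 e)) (by rw [map_pow, e, one_pow])
    rw [index_comap_of_surjective _ hπ.1] at h6
    have := pow_gcd_eq_one.2 ⟨e', h6⟩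
    rwa [ha, pow_one] at this
  have pe : PExt π l := ⟨h1.cent, fun z e k => tr _ (((Fact.out : l.Prime).coprime_iff_not_dvd.2 oU).pow_left k) (comm_U h hF h1) z e⟩
  let θ := f.toMonoidHom.comp (Fus.ext3U h)
  have t1 : Function.Injective θ := f.injective.comp (Fus.ext3U_injective h)
  have t2 : ¬ 2 ∣ θ.range.index := by
    have := θ.range.card_mul_index
    rw [← Nat.card_congr (MonoidHom.ofInjective t1).toEquiv, ← Nat.card_congr f.toEquiv, Fus.card_SU3' h] at this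
    rw [Nat.eq_of_mul_eq_mul_left Nat.card_pos this]
    exact Nat.two_dvd_ne_zero.2 (Nat.odd_iff.1 ((odd_q h hF).pow.mul (Nat.Odd.sub_odd (odd_q h hF).pow (odd_q h hF)).add_one))
  have t3 : ∀ z ∈ ⁅θ.range.comap π, θ.range.comap π⁆, π z = 1 → z = 1 := fun z hz e => by
    obtain ⟨z, hz', rfl⟩ := (map_subtype_commutator _).ge hz
    let ξ := (MonoidHom.ofInjective t1).symm.toMonoidHom.comp (π.subgroupComap θ.range)
    have x2 : ∀ x, ξ x = 1 ↔ π x = 1 := fun x => (map_eq_one_iff _ (MonoidHom.ofInjective t1).symm.injective).trans Subtype.ext_iff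
    exact congrArg Subtype.val (comm_GU h hF l (π := ξ) ((MonoidHom.ofInjective t1).symm.surjective.comp (π.subgroupComap_surjective_of_surjective _ hπ.1))
      ⟨fun z e g => Subtype.ext (pe.cen _ ((x2 z).1 e) _), fun z e k e' => Subtype.ext (pe.cop _ ((x2 z).1 e) k (congrArg Subtype.val e'))⟩
      z hz' ((x2 z).2 e))
  have inv : ∀ z, π z = 1 → z * z = 1 → z = 1 := fun z e e' => tr _ (Nat.prime_two.coprime_iff_not_dvd.2 t2) t3 z e ((sq z).trans e')
  refine ker_eq_bot_of_local hπ fun p hp => ?_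
  have := Fact.mk hp
  rcases eq_or_ne p 2 with rfl | h2
  · exact ⟨_, t2, t3⟩
  rcases eq_or_ne p l with rfl | hl'
  · exact ⟨_, oU, comm_U h hF h1⟩
  have h3 : ¬ p ∣ q := fun e => hl' ((Nat.prime_dvd_prime_iff_eq hp Fact.out).1 (hp.dvd_of_dvd_pow (hm ▸ e)))
  clear hm
  have cyc : ∀ P : Subgroup (SU3 h), IsCyclic P → ∀ z ∈ ⁅P.comap π, P.comap π⁆, π z = 1 → z = 1 := fun P hP =>
    comm_comap_of_cm fun x hx y hy => by
      obtain ⟨g, hg⟩ := hP.exists_generator
      obtain ⟨i, rfl⟩ : x ∈ zpowers (g : SU3 h) := let ⟨i, e⟩ := hg ⟨x, hx⟩; ⟨i, congrArg Subtype.val e⟩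
      obtain ⟨j, rfl⟩ : y ∈ zpowers (g : SU3 h) := let ⟨i, e⟩ := hg ⟨y, hy⟩; ⟨i, congrArg Subtype.val e⟩
      exact (h1.cmSub _).zpow_mem (Cm.symm ((h1.cmSub _).zpow_mem (h1.cm_self _) i)) j
  obtain ⟨r, rfl⟩ : ∃ r, q = r + 1 := ⟨q - 1, by omega⟩
  have e2 : (r + 1) ^ 2 - 1 = (r + 1 + 1) * r := by rw [Nat.sub_eq_iff_eq_add (Nat.one_le_pow _ _ (by omega))]; ring
  have two : (2 : ZMod p) ≠ 0 := fun e => h2 ((Nat.prime_dvd_prime_iff_eq hp Nat.prime_two).1
    ((ZMod.natCast_eq_zero_iff 2 p).1 e))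
  by_cases h4 : p ∣ r + 1 + 1
  · have h5 := Mult.equiv_comp_stem hπ f.symm
    refine ⟨((tau h).range ⊔ zpowers (s3 h)).comap f.symm.toMonoidHom, ?_, fun z hz e =>
      comm_T h (by omega) (CExt.of_ker_le h5.1 h5.2.1) (fun z e e' => ?_) z hz (by simp [e])⟩
    · have o3 : orderOf (s3 h) = 3 := orderOf_eq_prime (s3_pow h) fun e => s3_not_mem h (e ▸ one_mem _)
      have h6 := ((tau h).range ⊔ zpowers (s3 h)).card_mul_index
      rw [Coprime.card_sup_of_disjoint' (zpowers_le.2 (s3_norm h)) (by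
        have : Fact (Nat.card (zpowers (s3 h))).Prime := ⟨by rw [Nat.card_zpowers, o3]; exact Nat.prime_three⟩
        exact disjoint_iff.1 (subgroupOf_eq_bot.1 (((tau h).range.subgroupOf _).eq_bot_or_eq_top_of_prime_card.resolve_right
          fun e => s3_not_mem h (subgroupOf_eq_top.1 e (mem_zpowers _))))), Nat.card_congr f.toEquiv, hc, Nat.card_zpowers, o3,
        ← Nat.card_congr (MonoidHom.ofInjective (tau_inj h)).toEquiv, Nat.card_prod, card_mu h, e2] at h6
      rw [index_comap_of_surjective _ f.symm.surjective]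
      rintro ⟨k, hk⟩
      have h7 : 3 * (p * k) = (r + 1) ^ 3 * ((r * r + r + 1) * r) :=
        Nat.eq_of_mul_eq_mul_left (n := (r + 1 + 1) * (r + 1 + 1)) (by positivity) (by rw [← hk]; linear_combination h6)
      have h8 := congrArg (Nat.cast : ℕ → ZMod p) h7
      have h9 := (ZMod.natCast_eq_zero_iff _ _).2 h4
      push_cast at h8 h9
      rw [ZMod.natCast_self, show (r : ZMod p) = -2 by linear_combination h9] at h8
      obtain rfl : p = 3 := (Nat.prime_dvd_prime_iff_eq hp Nat.prime_three).1 ((ZMod.natCast_eq_zero_iff 3 p).1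
        (mul_left_cancel₀ two (by push_cast; linear_combination -h8)))
      obtain ⟨i, rfl⟩ : ∃ i, r = 3 * i + 1 := ⟨r / 3, by omega⟩
      have h10 : 3 * k = (3 * i + 2) ^ 3 * ((3 * i * i + 3 * i + 1) * (3 * i + 1)) :=
        Nat.eq_of_mul_eq_mul_left (n := 3) (by norm_num) (by linear_combination h7)
      ring_nf at h10
      omega
    · exact inv z (by simpa using e) e'
  by_cases h5 : p ∣ r
  · refine ⟨(dd h).range, fun e => ?_, cyc _ (isCyclic_of_surjective _ (dd h).rangeRestrict_surjective)⟩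
    have h6 := (dd h).range.card_mul_index
    rw [← Nat.card_congr (MonoidHom.ofInjective (dd_inj h)).toEquiv, Nat.card_units, h.card, hc, ← mul_assoc,
      mul_comm (_ * _)] at h6
    rw [Nat.eq_of_mul_eq_mul_left (by rw [e2]; exact Nat.mul_pos (by omega) (by omega)) h6,
      ← ZMod.natCast_eq_zero_iff] at e
    rw [← ZMod.natCast_eq_zero_iff] at h5
    push_cast at e
    exact two (by rw [h5] at e; linear_combination e)
  obtain ⟨P⟩ : Nonempty (Sylow p (SU3 h)) := inferInstance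
  exact ⟨P, P.not_dvd_index, cyc _ (isCyclic_of_not_dvd h hp h2 h3 (by rw [e2, hp.dvd_mul]; tauto) P.2)⟩

include h in
/-- The Schur multiplier of `SU₃(q)`, `q ≠ 2`, is trivial. -/
theorem su3_mult (hq : q ≠ 2) : HasCyclicSchurMultiplier (SU 3 F q) 1 := by
  by_cases h2 : (2 : F) = 0
  · have := h.finite
    have := Fintype.ofFinite F
    have : CharP F 2 := CharTwo.of_one_ne_zero_of_two_eq_zero one_ne_zero h2
    obtain ⟨m, -, hm⟩ := FiniteField.card F 2
    rw [← Nat.card_eq_fintype_card, h.card] at hm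
    obtain ⟨k, -, hk⟩ := (Nat.dvd_prime_pow Nat.prime_two).1 (hm ▸ dvd_pow_self q two_ne_zero)
    have := h.two_le
    refine su_mult h (n := k) ?_ hk
    rcases k with _ | _ | k <;> simp at hk ⊢ <;> omega
  · exact su3_odd h h2

end Cfsg.Lib.Mult.Un
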