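/-
Central extensions of special unitary groups over the fields with `4` and `9` elements: the `p`-part.
-/
import Cfsg.Agent.Lib.Mult.UA
import Cfsg.Agent.Lib.Mult.ClA
import Cfsg.Agent.Lib.Forms.Para
import Cfsg.Agent.Lib.Amalg.Ops

set_option autoImplicit false
set_option linter.unusedSectionVars false

namespace Cfsg.Lib.Mult.Un

open Module Subgroup Cfsg.Lib.Forms Cfsg.Lib.Forms.Form Cfsg.Lib.Phan Cfsg.Lib.Twist Cfsg.Lib.CAut
open scoped commutatorElement

variable {F : Type*} [Field F] {σ : F →+* F} {q : ℕ} {h : IsConj σ q} {V : Type*} [AddCommGroup V] [Module F V] {D : Form h.kind V}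
  {E : Type*} [Group E] {π : E →* D.isom} {e f x y x' y' : V} {k k' g : D.isom} {u v : E}

variable (e) in
/-- `k` is an Eichler element with data `e`, `z`. -/
def Rz (k : D.isom) (z : V) : Prop := ∃ d hd, k = D.eich e z d hd

theorem Rz.perp (a : Rz e k x) : D.B e x = 0 := let ⟨_, hd, _⟩ := a; hd.B_ez
theorem Rz.mem (a : Rz e k x) : k ∈ D.eichAt e := let ⟨_, hd, e⟩ := a; e ▸ eich_mem_eichAt hd
theorem Rz.mul (a : Rz e k x) (b : Rz e k' y) : Rz e (k * k') (x + y) := by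
  obtain ⟨_, a, rfl⟩ := a; obtain ⟨_, b, rfl⟩ := b; exact ⟨_, _, D.eich_mul a b⟩
theorem Rz.inv (a : Rz e k x) : Rz e k⁻¹ (-x) := by obtain ⟨_, a, rfl⟩ := a; exact ⟨_, _, D.eich_inv a⟩
theorem Rz.conj (a : Rz e k x) {c : F} (hg : g.1 e = c • e) : Rz e (g * k * g⁻¹) (σ c • g.1 x) := by
  obtain ⟨d, a, rfl⟩ := a
  have b := (a.isom g).smul (σ c)
  have b' : D.IsEich e (σ c • g.1 x) (c * σ c * d) := ⟨a.Q_e, by
    by_cases c0 : c = 0
    · simp [c0]
    · simpa [hg, c0] using b.B_ez, by rw [← b.tr_d, h.σσ, mul_comm (σ c)]⟩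
  exact ⟨_, b', (D.conj_eich g a).trans ((D.eich_congr _ (hg ▸ a.isom g) hg rfl rfl).trans (D.eich_smul_left c b' _))⟩
theorem Rz.div (a : Rz e k x) (b : Rz e k' x) : Rz e (k⁻¹ * k') 0 := by simpa using a.inv.mul b

theorem Rz.cent (a : Rz e k 0) {c : F} (hg : g.1 e = c • e) (hc : c * σ c = 1) : k * g = g * k := by
  obtain ⟨d, a, rfl⟩ := a
  refine isom_ext fun x => ?_
  have := B_isom g e x
  rw [hg, D.B_smul_left] at this
  simp only [isom_mul_apply, eich_apply, map_zero, LinearMap.zero_apply, zero_smul, add_zero, zero_add, map_sub, map_smul, hg, ← this, smul_smul]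
  congr 2
  linear_combination (-h.kind.ε * D.B e (g.1 x) * d) * hc

theorem Rz.comm (a : Rz e k x) (b : Rz e k' y) : ∃ hd, ⁅k, k'⁆ = D.eich e 0 (D.B x y - σ (D.B x y)) hd := by
  obtain ⟨d, a, rfl⟩ := a; obtain ⟨d', b, rfl⟩ := b
  have c : D.IsEich e 0 (D.B x y - σ (D.B x y)) := ⟨a.Q_e, by simp, by simp [h.σσ]⟩
  refine ⟨c, ?_⟩
  rw [commutatorElement_def, mul_assoc _ _⁻¹, ← mul_inv_rev, mul_inv_eq_iff_eq_mul, D.eich_mul, D.eich_mul, D.eich_mul]
  exact D.eich_congr _ _ rfl (by abel) (by rw [B_symm x y]; simp; ring)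

theorem Rz.comm' (a : Rz e k x) (b : Rz e k' y) : Rz e ⁅k, k'⁆ 0 := ⟨_, a.comm b⟩

theorem exists_rz (he : D.Q e = 0) (hx : D.B e x = 0) : ∃ k : D.isom, Rz e k x := let ⟨d, hd⟩ := exists_isEich he hx; ⟨_, d, hd, rfl⟩

theorem rz_of_mem (hef : D.IsHyp e f) (hk : k ∈ D.eichAt e) : ∃ x ∈ D.hp e f, Rz e k x :=
  let ⟨x, hx, a⟩ := exists_eich_of_mem hef hk; ⟨x, hx, a⟩

variable (π e) in
open Classical in
/-- A lift of an Eichler element. -/
noncomputable def sc (x : V) : E := if a : ∃ u, Rz e (π u) x then a.choose else 1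

variable (π e) in
/-- The commutator map. -/
noncomputable def bb (x y : V) : E := ⁅sc π e x, sc π e y⁆

theorem bb_symm : bb π e y x = (bb π e x y)⁻¹ := (commutatorElement_inv _ _).symm
theorem bb_self : bb π e x x = 1 := commutatorElement_self _

variable [FiniteDimensional F V] (hD : D.Nondeg) (hef : D.IsHyp e f) (hc : π.ker ≤ center E) (hr : D.det.ker ≤ π.range)

include hef hr in
theorem sc_spec (hx : D.B e x = 0) : Rz e (π (sc π e x)) x := by
  obtain ⟨d, hd⟩ := exists_isEich hef.Q_e hx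
  obtain ⟨u, hu⟩ := hr (D.det_eich e x d hd)
  have a : ∃ u, Rz e (π u) x := ⟨u, d, hd, hu⟩
  rw [sc, dif_pos a]; exact a.choose_spec

section
variable (hA : ∀ a u : E, Rz e (π a) 0 → π u ∈ D.eichAt e → a * u = u * a)
include hef hr hA

theorem comm_eq (a : Rz e (π u) x) (b : Rz e (π v) y) : ⁅u, v⁆ = bb π e x y := by
  have a' := sc_spec hef hr a.perp
  have b' := sc_spec hef hr b.perp
  have k : ∀ {u u' v : E} {x y}, Rz e (π u') x → Rz e (π u) x → Rz e (π v) y → ⁅u, v⁆ = ⁅u', v⁆ := fun {u u' v x y} a' a b => by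
    rw [show ⁅u, v⁆ = u' * (u'⁻¹ * u * v) * (u'⁻¹ * u)⁻¹ * u'⁻¹ * v⁻¹ by group, hA _ v (by simpa using a'.div a) b.mem]
    group
  rw [k a' a b, ← commutatorElement_inv, k b' b a', commutatorElement_inv, bb]

theorem bb_add (hx : D.B e x = 0) (hx' : D.B e x' = 0) (hy : D.B e y = 0) : bb π e (x + x') y = bb π e x' y * bb π e x y := by
  have a := sc_spec hef hr hx
  have a' := sc_spec hef hr hx'
  have b := sc_spec hef hr hy
  rw [← comm_eq hef hr hA (u := sc π e x * sc π e x') (map_mul π _ _ ▸ a.mul a') b,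
    show ⁅sc π e x * sc π e x', sc π e y⁆ = sc π e x * bb π e x' y * (sc π e x)⁻¹ * bb π e x y by simp only [bb]; group,
    ← hA _ _ (by simpa [bb, map_commutatorElement] using a'.comm' b) a.mem, mul_inv_cancel_right]

theorem bb_zero (hy : D.B e y = 0) : bb π e 0 y = 1 := by
  simpa using bb_add hef hr hA (x := 0) (x' := 0) (by simp) (by simp) hy

theorem bb_nsmul (hx : D.B e x = 0) (hy : D.B e y = 0) (n : ℕ) : bb π e (n • x) y = bb π e x y ^ n := by
  induction n with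
  | zero => simpa using bb_zero hef hr hA hy
  | succ n ih => rw [succ_nsmul, bb_add hef hr hA (by simp [hx]) hx hy, ih, pow_succ']

theorem bb_conj {s : E} (h1 : (π s).1 e = e) (hx : D.B e x = 0) (hy : D.B e y = 0) :
    s * bb π e x y * s⁻¹ = bb π e ((π s).1 x) ((π s).1 y) := by
  have k : ∀ x, D.B e x = 0 → Rz e (π (s * sc π e x * s⁻¹)) ((π s).1 x) := fun x hx => by
    simpa using (sc_spec hef hr hx).conj (g := π s) (c := 1) (by simpa)
  rw [← comm_eq hef hr hA (k x hx) (k y hy), bb]; group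

/-- The vectors `x` with `bb x y ∈ C`. -/
def inC (C : Subgroup E) (hy : D.B e y = 0) : AddSubgroup V where
  carrier := {x | D.B e x = 0 ∧ bb π e x y ∈ C}
  add_mem' a b := ⟨by simp [a.1, b.1], by rw [bb_add hef hr hA a.1 b.1 hy]; exact mul_mem b.2 a.2⟩
  zero_mem' := ⟨by simp, by rw [bb_zero hef hr hA hy]; exact one_mem _⟩
  neg_mem' {x} a := ⟨by simp [a.1], by
    have := bb_add hef hr hA (x := x) (x' := -x) a.1 (by simp [a.1]) hy
    rw [add_neg_cancel, bb_zero hef hr hA hy] at this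
    rw [eq_inv_of_mul_eq_one_left this.symm]; exact inv_mem a.2⟩

omit hA in
theorem map_bb (hx : D.B e x = 0) (hy : D.B e y = 0) : ∃ hd, π (bb π e x y) = D.eich e 0 (D.B x y - σ (D.B x y)) hd := by
  rw [bb, map_commutatorElement]; exact (sc_spec hef hr hx).comm (sc_spec hef hr hy)

include hD hc
variable (h5 : 5 ≤ finrank F V)
include h5

theorem bb_perp (hx : x ∈ D.hp e f) (hy : y ∈ D.hp e f) (ux : D.Q x = 1) (uy : D.Q y = 1) (o : D.B x y = 0) (a b : F) :
    bb π e (a • x) (b • y) = 1 := by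
  obtain ⟨l, l1, l2⟩ : ∃ l : F, l * σ l = 1 ∧ l ≠ 1 := by
    obtain ⟨θ, hθ⟩ := h.exists_not_fixed
    have : θ ≠ 0 := by rintro rfl; simp at hθ
    have : σ θ ≠ 0 := by simpa
    exact ⟨σ θ / θ, by rw [map_div₀, h.σσ]; field_simp, by rwa [Ne, div_eq_one_iff_eq ‹_›]⟩
  obtain ⟨g, g1, g2, g3⟩ := trans1 hD (Y := D.hp e f) (D.nondeg_restrict_iff.1 (hef.nondeg_hp hD)) (by have := hef.finrank_hp; omega)
    hy hx (Submodule.smul_mem _ l hx) uy ux (by rw [D.Q_smul, l1, ux, one_mul]) (D.eq_zero_symm o) (by simp [D.eq_zero_symm o])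
  obtain ⟨s, rfl⟩ := hr g1.1
  have x1 := (D.mem_hp.1 hx).1
  have y1 := (D.mem_hp.1 hy).1
  have k := bb_conj hef hr hA (s := s) (x := (a / (l - 1)) • x) (y := b • y) (g1.2 e fun w hw => D.eq_zero_symm (D.mem_hp.1 hw).1)
    (by simp [x1]) (by simp [y1])
  obtain ⟨hd, k'⟩ := map_bb hef hr (x := (a / (l - 1)) • x) (y := b • y) (by simp [x1]) (by simp [y1])
  rw [mem_center_iff.1 (hc (k'.trans ((D.eich_congr _ ⟨hef.Q_e, by simp, by simp⟩ rfl rfl (by simp [o])).trans (D.eich_zero _)))),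
    mul_inv_cancel_right, map_smul, map_smul, g2, g3, show (a / (l - 1)) • l • x = a • x + (a / (l - 1)) • x by
      have := sub_ne_zero.2 l2
      rw [smul_smul, ← add_smul]; congr 1; field_simp; ring, bb_add hef hr hA (by simp [x1]) (by simp [x1]) (by simp [y1])] at k
  simpa using k

theorem bb_unit (hx : x ∈ D.hp e f) (hy : y ∈ D.hp e f) (ux : D.Q x = 1) (uy : D.Q y = 1) (o : D.B x y = 0) (θ : F) :
    bb π e x (θ • x) = bb π e y (θ • y) := by
  have n := D.nondeg_restrict_iff.1 (hef.nondeg_hp hD)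
  have d : 3 ≤ finrank F (D.hp e f) := by have := hef.finrank_hp; omega
  obtain ⟨z, hz, uz, o', -⟩ := exists_unit_in n (on_two ux uy o) ![] (by simpa using ⟨hx, hy⟩) (by simp) (by omega)
  have p1 : ∀ x ∈ D.hp e f, D.B e x = 0 ∧ D.B e (θ • x) = 0 := fun x hx => by simp [(D.mem_hp.1 hx).1]
  obtain ⟨hd, k1⟩ := map_bb hef hr (p1 x hx).1 (p1 x hx).2
  obtain ⟨hd', k2⟩ := map_bb hef hr (p1 y hy).1 (p1 y hy).2
  have k3 : bb π e x (θ • x) * (bb π e y (θ • y))⁻¹ ∈ center E := hc (by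
    rw [MonoidHom.mem_ker, map_mul, map_inv, k1, k2, mul_inv_eq_one]
    exact D.eich_congr _ _ rfl rfl (by simp [Phan.B_self, ux, uy]))
  have k : ∀ x' ∈ D.hp e f, ∀ y' ∈ D.hp e f, D.Q x' = 1 → D.Q y' = 1 → D.B x' y' = 0 →
      bb π e x (θ • x) * (bb π e y (θ • y))⁻¹ = bb π e x' (θ • x') * (bb π e y' (θ • y'))⁻¹ := fun x' a y' b c c' o' => by
    obtain ⟨g, g1, g2, g3⟩ := trans_pair hD n d hx hy a b ux uy c c' o o'
    obtain ⟨s, rfl⟩ := hr g1.1
    have s1 := g1.2 e fun w hw => D.eq_zero_symm (D.mem_hp.1 hw).1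
    rw [← g2, ← g3, ← map_smul, ← map_smul, ← bb_conj hef hr hA s1 (p1 x hx).1 (p1 x hx).2, ← bb_conj hef hr hA s1 (p1 y hy).1 (p1 y hy).2,
      ← mul_inv_cancel_right (_ * _⁻¹) s, ← mem_center_iff.1 k3 s]
    group
  have := (k x hx z hz ux uz (o' 0)).symm.trans (k y hy z hz uy uz (o' 1))
  simpa using this

theorem inf_ker_eich (p : ℕ) [Fact p.Prime] [CharP F p] (hq : ∀ a : F, σ a = a → ∃ m : ℤ, a = m) :
    ∀ z ∈ ⁅(D.eichAt e).comap π, (D.eichAt e).comap π⁆, π z = 1 → z = 1 := by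
  obtain ⟨θ, hθ⟩ := h.exists_not_fixed
  obtain ⟨w, hw⟩ := Herm.exists_orthonormal (hef.nondeg_hp hD) rfl
  have uw : ∀ i, D.Q (w i) = 1 := fun i => by rw [← Phan.B_self]; simpa using hw i i
  have ow : ∀ i j, i ≠ j → D.B (w i) (w j) = 0 := fun i j c => by simpa [c] using hw i j
  have pw : ∀ (x : D.hp e f) (a : F), D.B e (a • x.1) = 0 := fun x a => by simp [(D.mem_hp.1 x.2).1]
  let i0 : Fin (finrank F (D.hp e f)) := ⟨0, by have := hef.finrank_hp; omega⟩
  set C := zpowers (bb π e (w i0) (θ • w i0)) with hC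
  have c1 : ∀ i, bb π e (w i) (θ • w i) ∈ C := fun i => by
    by_cases c : i = i0
    · exact c ▸ mem_zpowers _
    · exact bb_unit hD hef hc hr hA h5 (w i).2 (w i0).2 (uw _) (uw _) (ow _ _ c) θ ▸ mem_zpowers _
  have c2 : ∀ (N : AddSubgroup V) (x : V), x ∈ N → θ • x ∈ N → ∀ a : F, a • x ∈ N := fun N x h1 h2 a => by
    have t := sub_ne_zero.2 hθ
    have t' := sub_ne_zero.2 hθ.symm
    obtain ⟨m, hm⟩ := hq ((σ a - a) / (σ θ - θ)) (by rw [map_div₀, map_sub, map_sub, h.σσ, h.σσ]; field_simp; ring)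
    obtain ⟨n, hn⟩ := hq (a - m * θ) (by rw [map_sub, map_mul, map_intCast, ← hm]; field_simp; ring)
    rw [show a • x = n • x + m • θ • x by rw [← Int.cast_smul_eq_zsmul F, ← Int.cast_smul_eq_zsmul F, ← hn]; module]
    exact add_mem (zsmul_mem h1 n) (zsmul_mem h2 m)
  have c3 : ∀ (N : AddSubgroup V), (∀ i (a : F), a • (w i).1 ∈ N) → ∀ x ∈ D.hp e f, x ∈ N := fun N hN x hx => by
    rw [show x = ∑ i, w.repr ⟨x, hx⟩ i • (w i).1 from (congrArg Subtype.val (w.sum_repr ⟨x, hx⟩).symm).trans (Submodule.coe_sum _ _ _)]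
    exact sum_mem fun i _ => hN i _
  have sy : ∀ x y, bb π e x y ∈ C → bb π e y x ∈ C := fun x y a => by rw [bb_symm]; exact inv_mem a
  have c4 : ∀ x ∈ D.hp e f, ∀ y ∈ D.hp e f, bb π e x y ∈ C := fun x hx y hy =>
    (c3 (inC hef hr hA C (D.mem_hp.1 hy).1) (fun i a => ⟨pw _ a, sy _ _ (c3 (inC hef hr hA C (pw (w i) a)) (fun j b => by
      by_cases c : j = i
      · subst c
        have k := (D.mem_hp.1 (w j).2).1
        exact c2 (inC hef hr hA C (pw (w j) a)) _ ⟨k, sy _ _ (c2 (inC hef hr hA C k) _ ⟨k, by rw [bb_self]; exact one_mem _⟩ ⟨pw _ θ, sy _ _ (c1 j)⟩ a).2⟩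
          ⟨pw _ θ, sy _ _ (c2 (inC hef hr hA C (pw _ θ)) _ ⟨k, c1 j⟩ ⟨pw _ θ, by rw [bb_self]; exact one_mem _⟩ a).2⟩ b
      · exact ⟨pw _ b, bb_perp hD hef hc hr hA h5 (w j).2 (w i).2 (uw _) (uw _) (ow _ _ c) b a ▸ one_mem C⟩) y hy).2⟩) x hx).2
  intro z hz e1
  obtain ⟨n, rfl⟩ := mem_zpowers_iff.1 ((commutator_le (H₃ := C)).2 (fun u hu v hv => by
    obtain ⟨x, hx, a⟩ := rz_of_mem hef hu
    obtain ⟨y, hy, b⟩ := rz_of_mem hef hv
    exact comm_eq hef hr hA a b ▸ c4 x hx y hy) hz)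
  have k := (D.mem_hp.1 (w i0).2).1
  have o1 : bb π e (w i0) (θ • w i0) ^ p = 1 := by
    rw [← bb_nsmul hef hr hA k (pw _ θ), ← Nat.cast_smul_eq_nsmul F, CharP.cast_eq_zero, zero_smul, bb_zero hef hr hA (pw _ θ)]
  have o2 : orderOf (π (bb π e (w i0) (θ • w i0))) = p := orderOf_eq_prime (by rw [← map_pow, o1, map_one]) fun c => by
    obtain ⟨hd, k'⟩ := map_bb hef hr k (pw _ θ)
    have := (eich_inj hef (zero_mem _) (zero_mem _) ((k'.symm.trans c).trans (D.eich_zero ⟨hef.Q_e, by simp, by simp⟩).symm)).2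
    exact hθ (sub_eq_zero.1 (by simpa [Phan.B_self, uw] using this)).symm
  rw [map_zpow, ← orderOf_dvd_iff_zpow_eq_one, o2] at e1
  obtain ⟨m, rfl⟩ := e1
  rw [zpow_mul, zpow_natCast, o1, one_zpow]

end

include hD hef hc hr in
theorem cpl [Finite E] (h5 : 5 ≤ finrank F V) (p : ℕ) [Fact p.Prime] [CharP F p]
    (hq : ∀ a : F, σ a = a → ∃ m : ℤ, a = m) {ρ : F} (h1 : ρ * σ ρ = 1) (h2 : ρ ^ finrank F V ≠ 1) : ∃ M, Cl.Cpl π e M := by
  have := h.finite
  have r0 := left_ne_zero_of_mul_eq_one h1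
  have r1 : σ ρ = ρ⁻¹ := eq_inv_of_mul_eq_one_right h1
  set n := finrank F V
  obtain ⟨t, t1, t2, t3⟩ := hef.exists_torus hD (pow_ne_zero n r0)
  have m1 : ρ⁻¹ ^ 2 * σ (ρ⁻¹ ^ 2) = 1 := by rw [map_pow, map_inv₀, r1]; field_simp
  let τ := D.scalar _ m1 * t
  have a0 : D.det τ = 1 := Units.ext (by
    rw [map_mul, Units.val_mul, det_of_smul (D.scalar_apply _ m1), hef.det_torus t1 t2 t3, map_pow, r1, Units.val_one]
    simp only [inv_pow, inv_inv, ← pow_mul]
    rw [← pow_add, ← two_mul, inv_mul_cancel₀ (pow_ne_zero _ r0)])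
  have a1 : τ.1 e = (ρ⁻¹ ^ 2 * ρ ^ n) • e := by simp [τ, t1, smul_smul, mul_comm]
  have a1' : τ.1 f = (ρ⁻¹ ^ 2 * ρ ^ n) • f := by simp [τ, t2, smul_smul, r1, mul_comm]
  have a2 : ∀ w ∈ D.hp e f, τ.1 w = ρ⁻¹ ^ 2 • w := fun w hw => by simp [τ, t3 w hw]
  have m2 : ρ⁻¹ ^ 2 * ρ ^ n * σ (ρ⁻¹ ^ 2 * ρ ^ n) = 1 := by rw [map_mul, mul_mul_mul_comm, m1, map_pow, ← mul_pow, h1]; simp
  have m3 : σ (ρ⁻¹ ^ 2 * ρ ^ n) * ρ⁻¹ ^ 2 - 1 ≠ 0 := by
    rw [map_mul, mul_right_comm, mul_comm (σ _), m1, one_mul, map_pow, r1, inv_pow, sub_ne_zero]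
    simpa
  clear_value τ
  generalize ρ⁻¹ ^ 2 * ρ ^ n = c at a1 a1' m2 m3
  generalize ρ⁻¹ ^ 2 = μ at a2 m1 m3
  have c0 := left_ne_zero_of_mul_eq_one m2
  have a3 : τ ^ (q + 1) = 1 := isom_ext fun x => by
    obtain ⟨w, hw, hx⟩ := hef.exists_comb x
    rw [hx, map_add, map_add, map_smul, map_smul, pow_apply_of_smul a1, pow_apply_of_smul a1', pow_apply_of_smul (a2 w hw), ← h.norm_eq, ← h.norm_eq, m1, m2]
    simp
  have nm : ∀ g : D.isom, ∀ c : F, g.1 e = c • e → g ∈ normalizer (D.eichAt e : Set D.isom) := fun g c hg =>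
    mem_normalizer_iff.2 fun k => ⟨conj_mem_eichAt_of_fx hef.e_ne_zero ⟨c, hg⟩, fun hk => by
      simpa [mul_assoc] using conj_mem_eichAt_of_fx hef.e_ne_zero (Fx.inv ⟨c, hg⟩) hk⟩
  have q1 : D.eichAt e ≤ D.det.ker := (D.eichAt_le_E e).trans E_le_ker_det
  set H := D.eichAt e ⊔ zpowers τ
  have H1 : H ≤ π.range := (sup_le q1 (zpowers_le.2 a0)).trans hr
  have H2 : D.eichAt e ≤ ⁅H, H⁆ := fun k hk => by
    obtain ⟨x, hx, a⟩ := rz_of_mem hef hk
    obtain ⟨k', b⟩ := exists_rz (x := (σ c * μ - 1)⁻¹ • x) hef.Q_e (by simp [a.perp])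
    have b' := (b.conj a1).mul b.inv
    rw [map_smul, a2 x hx, show σ c • (σ c * μ - 1)⁻¹ • μ • x + -((σ c * μ - 1)⁻¹ • x) = x by
      rw [smul_smul, smul_smul, ← neg_smul, ← add_smul]; convert one_smul F x; field_simp; ring] at b'
    obtain ⟨d, hd, e1⟩ := b'.div a
    obtain ⟨θ, hθ⟩ := h.exists_not_fixed
    have : Nontrivial (D.hp e f) := nontrivial_of_finrank_pos (R := F) (by have := hef.finrank_hp; omega)
    obtain ⟨u, hu⟩ := Herm.exists_Q_eq (hef.nondeg_hp hD) (map_one σ)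
    have u1 := (D.mem_hp.1 u.2).1
    obtain ⟨k1, b1⟩ := exists_rz hef.Q_e u1
    obtain ⟨k2, b2⟩ := exists_rz (x := (d * θ / (θ - σ θ)) • u.1) hef.Q_e (by simp [u1])
    obtain ⟨hd', e2⟩ := b1.comm b2
    have d1 : σ d = -d := by have := hd.tr_d; simp at this; linear_combination this
    rw [← mul_inv_cancel_left (τ * k' * τ⁻¹ * k'⁻¹) k, e1, D.eich_congr hd hd' rfl rfl (by
      have := sub_ne_zero.2 hθ
      have := sub_ne_zero.2 hθ.symm
      rw [D.B_smul_right, Phan.B_self, show D.Q u.1 = 1 from hu, mul_one, map_div₀, map_mul, map_sub, h.σσ, d1]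
      field_simp; ring), ← e2]
    exact mul_mem (commutator_mem_commutator (mem_sup_right (mem_zpowers τ)) (mem_sup_left b.mem))
      (commutator_mem_commutator (mem_sup_left b1.mem) (mem_sup_left b2.mem))
  have hA : ∀ a u : E, Rz e (π a) 0 → π u ∈ D.eichAt e → a * u = u * a := fun a u ha hu => cm_of_comm hc H1
    (fun g hg => (mem_centralizer_singleton_iff.1 ((sup_le (fun k hk => mem_centralizer_singleton_iff.2 (ha.cent (c := 1)
      (by rw [one_smul, apply_of_mem_eichAt hef.Q_e hk]) (by simp)).symm) (zpowers_le.2 (mem_centralizer_singleton_iff.2 (ha.cent a1 m2).symm)) :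
        H ≤ centralizer {π a}) hg)).symm) (H2 hu)
  have hN : H ≤ normalizer (D.eichAt e : Set D.isom) := sup_le le_normalizer (zpowers_le.2 (nm τ c a1))
  have cj : ∀ g : D.isom, g.1 e = e → ⁅g, τ⁆ ∈ D.eichAt e := fun g hg => RU_le_eichAt hef ⟨fun u hu => by
      obtain ⟨a, rfl⟩ := Submodule.mem_span_singleton.1 hu
      have k1 : (τ⁻¹).1 e = c⁻¹ • e := isom_inv_apply_eq.2 (by rw [map_smul, a1, smul_smul, inv_mul_cancel₀ c0, one_smul])
      have k2 : (g⁻¹).1 e = e := isom_inv_apply_eq.2 hg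
      simp only [commutatorElement_def, isom_mul_apply, map_smul, k1, k2, a1, hg, smul_smul, inv_mul_cancel₀ c0, mul_one], fun x hx => by
      have k : ∀ y, D.B e y = 0 → τ.1 y - μ • y ∈ F ∙ e := fun y hy => by
        obtain ⟨w, hw, hy'⟩ := hef.exists_comb y
        rw [hy, zero_smul, add_zero] at hy'
        generalize h.kind.ε * D.B f y = s at hy'
        rw [hy', map_add, map_smul, a1, a2 w hw]
        exact Submodule.mem_span_singleton.2 ⟨s * (c - μ), by module⟩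
      have k1 : D.B e ((τ⁻¹).1 x) = 0 := by
        have := B_isom τ e ((τ⁻¹).1 x)
        rw [isom_apply_inv, a1, D.B_smul_left, D.mem_perp_span_singleton.1 hx, mul_zero] at this
        exact this.symm
      obtain ⟨a, ha⟩ := Submodule.mem_span_singleton.1 (k _ k1)
      obtain ⟨b, hb⟩ := Submodule.mem_span_singleton.1 (k ((g⁻¹).1 ((τ⁻¹).1 x)) (by rw [← B_isom g, hg, isom_apply_inv, k1]))
      have hb' := congrArg g.1 hb
      rw [map_smul, hg, map_sub, map_smul, isom_apply_inv] at hb'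
      rw [isom_apply_inv] at ha
      refine Submodule.mem_span_singleton.2 ⟨b - a, ?_⟩
      simp only [commutatorElement_def, isom_mul_apply, sub_smul, ha, hb']
      abel⟩
  refine ⟨⁅H.comap π, H.comap π⁆, fun m hm => ?_, fun k hk => ?_, inf_ker_sup hc H1 (nm τ c a1) ?_ (inf_ker_eich hD hef hc hr hA h5 p hq),
    fun g hg m hm => ?_⟩
  · have := mem_map_of_mem π hm
    rw [map_commutator, map_comap_eq_self H1] at this
    have a := le_sup_right.trans hN
    exact Amalg.comm_sup_le (le_normalizer_iff_commutator_le_left.1 hN) (Amalg.comm_sup_le' (le_normalizer_iff_commutator_le_right.1 a)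
      (commutator_le.2 fun _ ⟨i, hi⟩ _ ⟨j, hj⟩ => by
        rw [← hi, ← hj, commutatorElement_eq_one_iff_mul_comm.2 (zpow_mul_comm τ i j)]; exact one_mem _) le_normalizer a) le_normalizer a this
  · have := H2 hk
    rwa [← map_comap_eq_self H1, ← map_commutator] at this
  · have : Finite π.range := Finite.of_surjective _ π.rangeRestrict_surjective
    have : Finite (D.eichAt e) := Finite.of_injective _ (inclusion_injective (q1.trans hr))
    obtain ⟨k, hk⟩ := IsPGroup.iff_card.1 (isPGroup_eichAt p hef.Q_e)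
    have := Fintype.ofFinite F
    have q0 : (q : F) = 0 := pow_eq_zero_iff two_ne_zero |>.1 (by
      rw [← Nat.cast_pow, ← h.card, Nat.card_eq_fintype_card, FiniteField.cast_card_eq_zero])
    rw [hk, Nat.card_zpowers]
    exact ((((Fact.out : p.Prime).coprime_iff_not_dvd.2 fun c => by simpa [q0] using (CharP.cast_eq_zero_iff F p _).2 c).symm).coprime_dvd_left
      (orderOf_dvd_of_pow_eq_one a3)).pow_right k
  · have a : H ≤ H.comap (MulAut.conj (π g)).toMonoidHom := sup_le (fun k hk => mem_sup_left ((mem_normalizer_iff.1 (nm _ 1 (by simpa)) k).1 hk))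
      (zpowers_le.2 (by simpa [commutatorElement_def] using mul_mem (mem_sup_left (cj _ hg)) (mem_sup_right (mem_zpowers τ))))
    have b : (H.comap π).map (MulAut.conj g).toMonoidHom ≤ H.comap π := by rintro _ ⟨x, hx, rfl⟩; simpa using a hx
    exact commutator_mono b b ((map_commutator _ _ _).le (mem_map_of_mem (MulAut.conj g).toMonoidHom hm))

omit hef in
include hD hc in
theorem pext [Finite E] (hr : π.range = D.det.ker) (hs : π.ker ≤ commutator E) (h5 : 5 ≤ finrank F V) (p : ℕ) [Fact p.Prime] [CharP F p]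
    (hq : ∀ a : F, σ a = a → ∃ m : ℤ, a = m) {ρ : F} (h1 : ρ * σ ρ = 1) (h2 : ρ ^ finrank F V ≠ 1) : PExt π p :=
  have := h.finite
  Cl.pext p hD (fun z hz g => (mem_center_iff.1 (hc hz) g).symm) hs (fun _ e0 e1 => let ⟨_, hf⟩ := hD.exists_isHyp e1 e0
    cpl hD hf hc hr.ge h5 p hq h1 h2) fun A _ hA h0 => let ⟨e, a, b⟩ := Cl.exists_rad p hD hA h0
    ⟨e, a, b, by rw [← Phan.B_self]; exact a.2 e a.1⟩

end Cfsg.Lib.Mult.Un
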