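/-
The Schur multipliers of the special unitary groups.
-/
import Cfsg.Agent.Lib.Mult.UB
import Cfsg.Agent.Lib.Mult.UC
import Cfsg.Agent.Lib.Pres.SUc
import Cfsg.Agent.S0822
import Cfsg.Agent.S2090
import Cfsg.Agent.S2092

set_option autoImplicit false

namespace Cfsg.Lib.Mult.Un
open Module Subgroup Cfsg.Lib.Forms Cfsg.Lib.Forms.Form Cfsg.Lib.Phan Cfsg.Lib.Twist

universe u
variable {F : Type u} [Field F] {σ : F →+* F} {q : ℕ} (h : IsConj σ q) {n m d : ℕ}
include h

theorem su_perf (hn : 2 ≤ n) (h2 : n = 2 → 4 ≤ q) (h3 : ¬ (n = 3 ∧ q = 2)) : commutator (SU n F q) = ⊤ := by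
  obtain rfl | hn := hn.eq_or_lt
  · exact su2_perfect h (h2 rfl)
  · have : Group.IsPerfect (stdHerm h (Fin n)).det.ker := ⟨Herm.commutator_eq_top (stdHerm_nondeg h _) (by simpa) (by simpa using h3)⟩
    exact (Group.IsPerfect.ofSurjective (f := (suEquiv h n).symm.toMonoidHom) (MulEquiv.surjective _)).commutator_eq_top

theorem card_center_su (hn : 2 ≤ n) : Nat.card (center (SU n F q)) = n.gcd (q + 1) := by
  rw [Nat.card_congr (centerCongr (suEquiv h n)).toEquiv, Herm.card_center (stdHerm_nondeg h _) (by simpa)]; simp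

theorem psu_of_su (hn : 2 ≤ n) (h1 : commutator (SU n F q) = ⊤) (h2 : HasCyclicSchurMultiplier (SU n F q) 1) :
    HasCyclicSchurMultiplier (PSU n F q) (n.gcd (q + 1)) := by
  have := finite_of_mult h2
  have := Pres.isCyclic_center_su h (stdHerm_nondeg h (Fin n)) (by simpa)
  have := isCyclic_of_surjective _ (centerCongr (suEquiv h n)).symm.surjective
  exact hasMult_of_mult_one (stem_of_perfect ⟨h1⟩ (QuotientGroup.mk'_surjective _) (QuotientGroup.ker_mk' _).le) h2
    ((MulEquiv.subgroupCongr (QuotientGroup.ker_mk' _)).trans (card_center_su h hn ▸ (zmodCyclicMulEquiv this).symm))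

theorem red (H : ∀ (E : Type u) [Group E] [Finite E] (π : E →* (stdHerm h (Fin n)).isom) (e : ℕ → Fin n → F), OnS (stdHerm h (Fin n)) e n →
    π.ker ≤ center E → π.range = (stdHerm h (Fin n)).det.ker → π.ker ≤ commutator E →
      ∃ K, Gr π K (SUb (stdHerm h (Fin n)) (sp F e 0 (0 + n)))) : HasCyclicSchurMultiplier (SU n F q) 1 := by
  have := h.finite
  refine mult_one_iff.2 fun E _ _ π hπ => ?_
  obtain ⟨e, hO, -⟩ := exists_std h n
  let ι := (Subgroup.subtype _).comp (suEquiv h n).toMonoidHom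
  have i1 : Function.Injective ι := Subtype.val_injective.comp (suEquiv h n).injective
  have i2 : (ι.comp π).ker = π.ker := MonoidHom.ker_comp_of_injective _ _ i1
  obtain ⟨K, g⟩ := H E (ι.comp π) e hO (i2 ▸ hπ.2.1) (by
    rw [MonoidHom.range_comp, MonoidHom.range_eq_top.2 hπ.1, ← MonoidHom.range_eq_map, MonoidHom.range_comp,
      (MonoidHom.range_eq_top (f := (suEquiv h n).toMonoidHom)).2 (suEquiv h n).surjective, ← MonoidHom.range_eq_map, range_subtype]) (i2 ▸ hπ.2.2)
  rw [zero_add, hO.sp_top (stdHerm_nondeg h _) (by simp)] at g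
  refine eq_bot_iff.2 fun z hz => ?_
  obtain ⟨x, rfl⟩ := surjective_of_lift hπ (η := K.subtype) rfl (fun s => by
    obtain ⟨x, hx, e⟩ := g.ex (ι s) ((mem_SUb_top (stdHerm_nondeg h _)).2 (suEquiv h n s).2)
    exact ⟨⟨x, hx⟩, i1 e⟩) z
  exact g.inj _ x.2 (i2.ge hz)

theorem mult_ind (hm : 3 ≤ m) (hd : d + 1 ≤ m) (H0 : 4 ≤ q ∨ 4 ≤ m ∧ d + 2 ≤ m) (hp : ∀ k, d ≤ k → commutator (SU k F q) = ⊤)
    (H : HasCyclicSchurMultiplier (SU m F q) 1) (hn : m ≤ n) : HasCyclicSchurMultiplier (SU n F q) 1 :=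
  have hD := stdHerm_nondeg h (Fin n)
  red h fun _ _ _ _ _ hO hc hr _ => ind hD hO hc hm hd H0 (fun _ k hk H => let ⟨j, _⟩ := hO.exists_equiv hD H; ok_of_perfect hc j (hp k hk))
    (fun _ H' => let ⟨j, _⟩ := hO.exists_equiv hD H'; exists_gr hc (fun _ hs => hr.ge hs.1) j (hp m (by omega))
      (psu_of_su h (by omega) (hp m (by omega)) H) (r := 1) (by rw [card_center_su h (by omega), Nat.card_congr Multiplicative.toAdd, Nat.card_zmod, one_mul]) fun _ _ e => by simpa using e)
    n hn 0 (by omega)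

theorem mult_small (hq : q ≤ 3) (hn : 5 ≤ n) (h1 : Nat.gcd (q ^ 2 - 1) n = 1) : HasCyclicSchurMultiplier (SU n F q) 1 := by
  have := h.finite
  have := Fintype.ofFinite F
  have q2 := h.two_le
  have hF : Fintype.card F = q ^ 2 := by rw [← Nat.card_eq_fintype_card, h.card]
  have hD := stdHerm_nondeg h (Fin n)
  have : Fact q.Prime := ⟨by interval_cases q <;> norm_num⟩
  have : CharP F q := (CharP.charP_iff_prime_eq_zero Fact.out).2 (cast_q h)
  obtain ⟨ρ, r1, r2⟩ := exists_pow_ne h (n := n) (by omega) (by rw [h.card, h1]; omega)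
  refine red h fun E _ _ π e hO hc hr hs => ?_
  have hπ := pext hD hc hr hs (by simpa) q (fun a ha => by
    rw [h.apply] at ha
    have : a * (a - 1) * (a + 1) = 0 := by
      interval_cases q
      · linear_combination (a + 1) * ha
      · linear_combination ha
    rcases mul_eq_zero.1 this with c | c
    · rcases mul_eq_zero.1 c with c | c
      · exact ⟨0, by simpa⟩
      · exact ⟨1, by simpa [sub_eq_zero] using c⟩
    · exact ⟨-1, by simpa [add_eq_zero_iff_eq_neg] using c⟩) r1 (by simpa)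
  refine ind hD hO hc (m := 4) (d := 2) (by omega) (by omega) (by omega)
    (fun _ k hk H => let ⟨j, _⟩ := hO.exists_equiv hD H; ok_of_gen hπ j (su_gen' h q hk)) (fun _ H => ?_) n (by omega) 0 (by omega)
  obtain ⟨j, -⟩ := hO.exists_equiv hD H
  have a := su_perf h (n := 4) (by omega) (by omega) (by omega)
  have b := card_center_su h (n := 4) (by omega)
  interval_cases q
  · obtain ⟨i⟩ := Cfsg.Agent.S0822.result (F := F) (K := ZMod 3) hF (by simp)
    exact exists_gr hc (fun _ hs => hr.ge hs.1) j a (mult_congr_left (Cfsg.Agent.S2092.result (F := ZMod 3) (q := 3) (by simp) 2 le_rfl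
      (fun _ => le_rfl) (by omega)) i.symm) (r := 2 ^ 1) (by rw [b]; simp) fun z e => hπ.cop z e 1
  · exact exists_gr hc (fun _ hs => hr.ge hs.1) j a (Cfsg.Agent.S2090.result hF) (r := 3 ^ 2) (by rw [b]; simp) fun z e => hπ.cop z e 2

theorem su_mult (hn : 3 ≤ n) (h3 : ¬ (n = 3 ∧ q = 2)) (h4 : ¬ (n = 4 ∧ q ≤ 3)) (h6 : ¬ (n = 6 ∧ q = 2)) :
    HasCyclicSchurMultiplier (SU n F q) 1 := by
  have := h.two_le
  by_cases c : 4 ≤ q
  · exact mult_ind h (m := 3) (d := 2) le_rfl le_rfl (.inl c) (fun k hk => su_perf h hk (fun _ => c) (by omega)) (su3_mult h (by omega)) hn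
  obtain rfl | hn := hn.eq_or_lt
  · exact su3_mult h (by omega)
  obtain rfl | rfl : q = 2 ∨ q = 3 := by omega
  · obtain rfl | hn : n = 5 ∨ 7 ≤ n := by omega
    · exact mult_small h (by omega) le_rfl (by norm_num)
    · exact mult_ind h (m := 7) (d := 4) (by omega) (by omega) (by omega) (fun k hk => su_perf h (by omega) (by omega) (by omega))
        (mult_small h (by omega) (by omega) (by norm_num)) hn
  · exact mult_ind h (m := 5) (d := 3) (by omega) (by omega) (by omega) (fun k hk => su_perf h (by omega) (by omega) (by omega))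
      (mult_small h (by omega) (by omega) (by norm_num)) (by omega)

end Cfsg.Lib.Mult.Un
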